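import Cfsg.Agent.H12.P4.NrmQ

/-!
# S5210 (U₆(2)): orders
-/

set_option autoImplicit false

namespace Cfsg.Agent.H12.P4

open Cfsg.Agent.H776.P4 Cfsg.Agent.H756.PU Matrix

universe u

theorem card_E0 : Nat.card E0 = 243 := by
  let s : (N6 → ZMod 3) →+ ZMod 3 :=
    { toFun := fun e => ∑ i, e i
      map_zero' := by simp
      map_add' := fun a b => by
        show ∑ i, (a i + b i) = _
        rw [Finset.sum_add_distrib] }
  have hs : Function.Surjective s := by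
    intro c
    refine ⟨Pi.single (.inl 0) c, ?_⟩
    show ∑ i, (Pi.single (.inl 0) c : N6 → ZMod 3) i = c
    rw [Finset.sum_pi_single']
    simp
  have hk : s.ker = E0 := by
    ext e
    rfl
  have h1 := s.ker.card_mul_index
  rw [AddSubgroup.index_ker, AddMonoidHom.range_eq_top.2 hs, hk] at h1
  have h2 : Nat.card ((⊤ : AddSubgroup (ZMod 3))) = 3 := by
    rw [Nat.card_congr (AddSubgroup.topEquiv (G := ZMod 3)).toEquiv, Nat.card_zmod]
  have h3 : Nat.card (N6 → ZMod 3) = 729 := by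
    rw [Nat.card_fun, Nat.card_zmod, Nat.card_sum, Nat.card_zmod]
    norm_num
  rw [h2, h3] at h1
  omega

theorem card_perm3 : Nat.card (Equiv.Perm (ZMod 3)) = 6 := by
  rw [Nat.card_perm, Nat.card_zmod]
  rfl

theorem card_blk : Nat.card (E0 × ((Equiv.Perm (ZMod 3) × Equiv.Perm (ZMod 3)) × Bool)) = 17496 := by
  rw [Nat.card_prod, Nat.card_prod, Nat.card_prod, card_E0, card_perm3, Nat.card_eq_fintype_card (α := Bool),
    Fintype.card_bool]

section

variable {K : Type u} [Field K] [StarRing K] (C : Co K) {p n : ℕ} (hK : HypK K p n)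

include hK

theorem card_NS [Finite (PG K)] : Nat.card (NJ mk (io6 C) (io6_injective C)) = 17496 := by
  rw [← card_blk]
  symm
  refine Nat.card_congr (Equiv.ofBijective (fun t => ⟨mo (blk t.2) t.1.1 t.1.2, ?_⟩) ⟨?_, ?_⟩)
  · exact (nrmS_iff C hK).2 ⟨_, _, _, rfl⟩
  · intro t t' h
    have h1 : mo (blk t.2) t.1.1 t.1.2 = mo (blk t'.2) t'.1.1 t'.1.2 := congrArg Subtype.val h
    have h2 := mm_inj (congrArg Subtype.val h1)
    exact Prod.ext (Subtype.ext h2.2) (blk_injective h2.1)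
  · rintro ⟨a, ha⟩
    obtain ⟨t, e, he, rfl⟩ := (nrmS_iff C hK).1 ha
    exact ⟨(⟨e, he⟩, t), rfl⟩

theorem card_NQ [Finite (PG K)] : Nat.card (NJ mk (ioQ C) (ioQ_injective C)) = 279936 := by
  have h0 : Nat.card ((Option (ZMod 3) × Option (ZMod 3)) ×
      (E0 × ((Equiv.Perm (ZMod 3) × Equiv.Perm (ZMod 3)) × Bool))) = 279936 := by
    rw [Nat.card_prod, card_blk, Nat.card_prod, Nat.card_eq_fintype_card (α := Option (ZMod 3)), Fintype.card_option,
      ZMod.card]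
  rw [← h0]
  symm
  refine Nat.card_congr (Equiv.ofBijective (fun t => ⟨RR t.1.1 t.1.2 * mo (blk t.2.2) t.2.1.1 t.2.1.2, ?_⟩) ⟨?_, ?_⟩)
  · exact (nrmQ_iff C hK).2 ⟨_, _, _, _, _, rfl⟩
  · rintro ⟨⟨s, s'⟩, ⟨e, he⟩, t⟩ ⟨⟨u, u'⟩, ⟨f, hf⟩, t'⟩ h
    have h1 : RR s s' * mo (blk t) e he = RR u u' * mo (blk t') f hf := congrArg Subtype.val h
    have h2 : RR s s' = RR u u' * (mo (blk t') f hf * (mo (blk t) e he)⁻¹) := by
      rw [← mul_assoc, ← h1, mul_inv_cancel_right]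
    rw [mo_inv, mo_mul] at h2
    obtain ⟨h3, h4⟩ := RR_inj h2
    subst h3 h4
    have h5 : mo (blk t) e he = mo (blk t') f hf := mul_left_cancel h1
    obtain ⟨h6, h7⟩ := mm_inj (congrArg Subtype.val h5)
    subst h7
    rw [blk_injective h6]
  · rintro ⟨a, ha⟩
    obtain ⟨s, s', t, e, he, rfl⟩ := (nrmQ_iff C hK).1 ha
    exact ⟨((s, s'), (⟨e, he⟩, t)), rfl⟩

end

theorem const_mem (t k : ZMod 3) : (fun j => Ev t 0 0 0 j + k) ∈ E0 :=
  E0.add_mem (Ev_mem _ _ _ _) (by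
    rw [mem_E0, Finset.sum_const, show (Finset.univ : Finset N6).card = 6 from rfl]
    revert k
    decide)

section

variable {K : Type u} [Field K] [StarRing K] (C : Co K) {p n : ℕ}

theorem cen_param {a : SUt} : (∃ z ∈ PZ K, mk a = io6 C z) ↔
    ∃ t k : ZMod 3, a = mo 1 (fun j => Ev t 0 0 0 j + k) (const_mem t k) := by
  constructor
  · rintro ⟨z, hz, h1⟩
    rw [io6_PZ C hz] at h1
    obtain ⟨k, hk⟩ := mk_eq_iff.1 h1.symm
    rw [coe_mo, smul_mm] at hk
    exact ⟨C.re z.a, k, SUt.ext' hk⟩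
  · rintro ⟨t, k, rfl⟩
    obtain ⟨z, hz, -, h1⟩ := exists_PZ C t
    refine ⟨z, hz, ?_⟩
    rw [h1, eq_comm, mk_mo_eq]
    exact ⟨rfl, k, fun j => rfl⟩

theorem card_cen (H : Subgroup SUt) (h : ∀ a, a ∈ H ↔ ∃ z ∈ PZ K, mk a = io6 C z) : Nat.card H = 9 := by
  have h0 : Nat.card (ZMod 3 × ZMod 3) = 9 := by rw [Nat.card_prod, Nat.card_zmod]
  rw [← h0]
  symm
  refine Nat.card_congr (Equiv.ofBijective (fun t => ⟨mo 1 (fun j => Ev t.1 0 0 0 j + t.2) (const_mem t.1 t.2), ?_⟩)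
    ⟨?_, ?_⟩)
  · rw [h, cen_param C]
    exact ⟨_, _, rfl⟩
  · rintro ⟨t, k⟩ ⟨t', k'⟩ h1
    obtain ⟨-, h2⟩ := mm_inj (congrArg Subtype.val (congrArg Subtype.val h1))
    have h3 : ∀ j, Ev t 0 0 0 j = Ev t' 0 0 0 j + (k' - k) := fun j => by
      have h4 : Ev t 0 0 0 j + k = Ev t' 0 0 0 j + k' := congrFun h2 j
      linear_combination h4
    obtain ⟨h4, -⟩ := Ev_inj h3
    subst h4
    have h5 := h3 (.inl 0)
    have h6 : k = k' := by linear_combination h5
    rw [h6]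
  · rintro ⟨a, ha⟩
    obtain ⟨t, k, rfl⟩ := (cen_param C).1 ((h a).1 ha)
    exact ⟨(t, k), rfl⟩

/-- the preimage of the Sylow subgroup -/
theorem syl_param {a : SUt} : mk a ∈ (io6 C).range ↔ ∃ s1 s2 e, ∃ he : e ∈ E0, a = mo (Pr s1 s2) e he := by
  constructor
  · rintro ⟨x, hx⟩
    rw [io6_apply, io] at hx
    obtain ⟨k, hk⟩ := mk_eq_iff.1 hx
    rw [coe_mo, smul_mm] at hk
    refine ⟨_, _, _, ?_, SUt.ext' hk⟩
    have h2 := a.2.2
    rw [hk, det_mm] at h2
    exact wp_inj _ _ h2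
  · rintro ⟨s1, s2, e, he, rfl⟩
    obtain ⟨y, hy, -⟩ := io6_surj C s1 s2 he
    exact ⟨y, hy⟩

theorem card_syl : Nat.card ((io6 C).range.comap mk) = 3 ^ 7 := by
  have h0 : Nat.card ((ZMod 3 × ZMod 3) × E0) = 3 ^ 7 := by
    rw [Nat.card_prod, Nat.card_prod, Nat.card_zmod, card_E0]
    norm_num
  rw [← h0]
  symm
  refine Nat.card_congr (Equiv.ofBijective (fun t => ⟨mo (Pr t.1.1 t.1.2) t.2.1 t.2.2, ?_⟩) ⟨?_, ?_⟩)
  · rw [Subgroup.mem_comap, syl_param C]
    exact ⟨_, _, _, _, rfl⟩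
  · rintro ⟨⟨s1, s2⟩, ⟨e, he⟩⟩ ⟨⟨u1, u2⟩, ⟨f, hf⟩⟩ h1
    obtain ⟨h2, h3⟩ := mm_inj (congrArg Subtype.val (congrArg Subtype.val h1))
    obtain ⟨h4, h5⟩ := Pr_inj h2
    have h3' : e = f := h3
    have h4' : s1 = u1 := h4
    have h5' : s2 = u2 := h5
    subst h3' h4' h5'
    rfl
  · rintro ⟨a, ha⟩
    obtain ⟨s1, s2, e, he, rfl⟩ := (syl_param C).1 ha
    exact ⟨((s1, s2), ⟨e, he⟩), rfl⟩

/-- **the Sylow property** -/
theorem index_syl (hK : HypK K p n) [Finite (PG K)] : ¬ 3 ∣ (io6 C).range.index := by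
  have h3 : Fact (Nat.Prime 3) := ⟨Nat.prime_three⟩
  rw [← Subgroup.index_comap_of_surjective (io6 C).range mk_surj]
  intro h
  have h1 : 3 ^ (7 + 1) ∣ Nat.card SUt := by
    rw [← ((io6 C).range.comap mk).card_mul_index, card_syl C, pow_succ]
    exact Nat.mul_dvd_mul_left _ h
  have h2 := Sylow.prime_dvd_card_quotient_normalizer h1 (card_syl C)
  have h4 : Subgroup.normalizer (((io6 C).range.comap mk : Subgroup SUt) : Set SUt) =
      NJ mk (io6 C) (io6_injective C) := by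
    ext a
    constructor
    · intro ha x
      obtain ⟨b, hb⟩ := mk_surj (io6 C x)
      have h5 := (Subgroup.mem_normalizer_iff.1 ha b).1 (show mk b ∈ (io6 C).range from ⟨x, hb.symm⟩)
      obtain ⟨y, hy⟩ := h5
      refine ⟨y, ?_⟩
      rw [hy, map_mul, map_mul, map_inv, hb]
    · intro ha
      have key : ∀ a, a ∈ NJ mk (io6 C) (io6_injective C) → ∀ b, mk b ∈ (io6 C).range → mk (a * b * a⁻¹) ∈ (io6 C).range := by
        rintro a ha b ⟨x, hx⟩
        obtain ⟨y, hy⟩ := ha x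
        refine ⟨y, ?_⟩
        rw [← hy, map_mul, map_mul, map_inv, hx]
      rw [Subgroup.mem_normalizer_iff]
      intro b
      constructor
      · exact key a ha b
      · intro hb
        have h5 := key a⁻¹ (Subgroup.inv_mem _ ha) _ hb
        have h6 : a⁻¹ * (a * b * a⁻¹) * a⁻¹⁻¹ = b := by group
        rw [h6] at h5
        exact h5
  have h5 : ((io6 C).range.comap mk) ≤ Subgroup.normalizer (((io6 C).range.comap mk : Subgroup SUt) : Set SUt) :=
    Subgroup.le_normalizer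
  have h6 := (((io6 C).range.comap mk).subgroupOf
    (Subgroup.normalizer (((io6 C).range.comap mk : Subgroup SUt) : Set SUt))).card_mul_index
  rw [Nat.card_congr (Subgroup.subgroupOfEquivOfLe h5).toEquiv, card_syl C, h4, card_NS C hK] at h6
  rw [h4] at h2
  have h7 : Nat.card (NJ mk (io6 C) (io6_injective C) ⧸ ((io6 C).range.comap mk).comap
      (NJ mk (io6 C) (io6_injective C)).subtype) = 8 := by
    have h8 : (((io6 C).range.comap mk).subgroupOf (NJ mk (io6 C) (io6_injective C))).index = 8 := by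
      omega
    exact h8
  rw [h7] at h2
  exact absurd h2 (by decide)

end

end Cfsg.Agent.H12.P4
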