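import Mathlib
import Cfsg.Agent.H756.PU.Stmts

/-!
# S5210 (U₆(2)): coordinates of the field with nine elements
-/

set_option autoImplicit false

namespace Cfsg.Agent.H12.P4

open Cfsg.Agent.H756.PU (HypK)

universe u

/-- coordinates with respect to `1, i` -/
structure Co (K : Type u) [Field K] [StarRing K] where
  re : K → ZMod 3
  im : K → ZMod 3
  re_add : ∀ x y, re (x + y) = re x + re y
  im_add : ∀ x y, im (x + y) = im x + im y
  re_mul : ∀ x y, re (x * y) = re x * re y - im x * im y
  im_mul : ∀ x y, im (x * y) = re x * im y + im x * re y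
  re_star : ∀ x, re (star x) = re x
  im_star : ∀ x, im (star x) = - im x
  ext : ∀ x y, re x = re y → im x = im y → x = y
  surj : ∀ a b, ∃ x, re x = a ∧ im x = b

namespace Co

variable {K : Type u} [Field K] [StarRing K] (C : Co K)

theorem re_zero : C.re 0 = 0 := by
  have := C.re_add 0 0
  rw [add_zero] at this
  exact left_eq_add.1 this

theorem im_zero : C.im 0 = 0 := by
  have := C.im_add 0 0
  rw [add_zero] at this
  exact left_eq_add.1 this

theorem im_fix {x : K} (h : star x = x) : C.im x = 0 := by
  have h1 := C.im_star x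
  rw [h] at h1
  revert h1
  generalize C.im x = t
  revert t
  decide

theorem fix_im {x : K} (h : C.im x = 0) : star x = x := C.ext _ _ (C.re_star x) (by rw [C.im_star, h, neg_zero])

end Co

theorem exists_co {K : Type u} [Field K] [StarRing K] {p n : ℕ} (hK : HypK K p n) (hq : p ^ n = 3) : Nonempty (Co K) := by
  have hfin := hK.fin
  have hcard : Nat.card K = 9 := by rw [hK.card, hq]; norm_num
  have hp3 : p = 3 := by
    have h1 : p ∣ 3 := by
      rw [← hq]
      exact dvd_pow_self p (by have := hK.hn; omega)
    exact (Nat.prime_dvd_prime_iff_eq hK.pp Nat.prime_three).1 h1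
  subst hp3
  have hchar : CharP K 3 := hK.char
  have h3 : (3 : K) = 0 := CharP.cast_eq_zero K 3
  have hstar : ∀ x : K, star x = x ^ 3 := fun x => by rw [hK.star_eq, hq]
  have hft : Fintype K := Fintype.ofFinite K
  obtain ⟨i, hi⟩ : ∃ i : K, i * i = -1 := by
    have h1 : IsSquare (-1 : K) := by
      rw [FiniteField.isSquare_neg_one_iff]
      rw [← Nat.card_eq_fintype_card, hcard]
      decide
    obtain ⟨i, hi⟩ := h1
    exact ⟨i, hi.symm⟩
  let c : ZMod 3 →+* K := ZMod.castHom (dvd_refl 3) K
  have hc : Function.Injective c := c.injective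
  let f : ZMod 3 × ZMod 3 → K := fun t => c t.1 + c t.2 * i
  have hf : ∀ t, f t = c t.1 + c t.2 * i := fun t => rfl
  have hci : ∀ a b : ZMod 3, c a + c b * i = 0 → a = 0 ∧ b = 0 := by
    intro a b hab
    have hb : b = 0 := by
      by_contra hb
      have hb' : c b ≠ 0 := fun h => hb (hc (h.trans (map_zero c).symm))
      have h1 : c (a * a) = c (-(b * b)) := by
        rw [map_mul, map_neg, map_mul]
        have h2 : c a = -(c b * i) := by linear_combination hab
        rw [h2]
        linear_combination (c b * c b) * hi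
      exact (by decide : ∀ a b : ZMod 3, a * a = -(b * b) → b = 0) a b (hc h1) |> hb
    rw [hb, map_zero, zero_mul, add_zero] at hab
    exact ⟨hc (hab.trans (map_zero c).symm), hb⟩
  have hinj : Function.Injective f := by
    intro s t hst
    have h1 : c (s.1 - t.1) + c (s.2 - t.2) * i = 0 := by
      rw [hf, hf] at hst
      rw [map_sub, map_sub]
      linear_combination hst
    obtain ⟨h2, h3⟩ := hci _ _ h1
    exact Prod.ext (sub_eq_zero.1 h2) (sub_eq_zero.1 h3)
  have hbij : Function.Bijective f := by
    rw [Fintype.bijective_iff_injective_and_card]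
    refine ⟨hinj, ?_⟩
    rw [← Nat.card_eq_fintype_card (α := K), hcard]
    simp [ZMod.card]
  let e := Equiv.ofBijective f hbij
  have he : ∀ x, c (e.symm x).1 + c (e.symm x).2 * i = x := fun x => e.apply_symm_apply x
  have huniq : ∀ (x : K) (a b : ZMod 3), x = c a + c b * i → (e.symm x).1 = a ∧ (e.symm x).2 = b := by
    intro x a b h
    have h1 : e.symm x = (a, b) := by
      rw [Equiv.symm_apply_eq]
      exact h
    rw [h1]
    exact ⟨rfl, rfl⟩
  have hsi : star i = -i := by
    rw [hstar]
    linear_combination i * hi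
  have hsc : ∀ a : ZMod 3, star (c a) = c a := by
    intro a
    rw [hstar, ← map_pow]
    congr 1
    revert a
    decide
  refine ⟨⟨fun x => (e.symm x).1, fun x => (e.symm x).2, ?_, ?_, ?_, ?_, ?_, ?_, ?_, ?_⟩⟩
  · intro x y
    refine (huniq (x + y) _ ((e.symm x).2 + (e.symm y).2) ?_).1
    conv_lhs => rw [← he x, ← he y]
    rw [map_add, map_add]
    ring
  · intro x y
    refine (huniq (x + y) ((e.symm x).1 + (e.symm y).1) _ ?_).2
    conv_lhs => rw [← he x, ← he y]
    rw [map_add, map_add]
    ring
  · intro x y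
    refine (huniq (x * y) _ ((e.symm x).1 * (e.symm y).2 + (e.symm x).2 * (e.symm y).1) ?_).1
    conv_lhs => rw [← he x, ← he y]
    rw [map_sub, map_mul, map_mul, map_add, map_mul, map_mul]
    linear_combination (c (e.symm x).2 * c (e.symm y).2) * hi
  · intro x y
    refine (huniq (x * y) ((e.symm x).1 * (e.symm y).1 - (e.symm x).2 * (e.symm y).2) _ ?_).2
    conv_lhs => rw [← he x, ← he y]
    rw [map_sub, map_mul, map_mul, map_add, map_mul, map_mul]
    linear_combination (c (e.symm x).2 * c (e.symm y).2) * hi
  · intro x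
    refine (huniq (star x) _ (-(e.symm x).2) ?_).1
    conv_lhs => rw [← he x]
    rw [star_add, star_mul', hsc, hsc, hsi, map_neg]
    ring
  · intro x
    refine (huniq (star x) (e.symm x).1 _ ?_).2
    conv_lhs => rw [← he x]
    rw [star_add, star_mul', hsc, hsc, hsi, map_neg]
    ring
  · intro x y h1 h2
    rw [← he x, ← he y, h1, h2]
  · intro a b
    exact ⟨f (a, b), huniq _ a b rfl⟩

end Cfsg.Agent.H12.P4
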