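import Mathlib

/-!
# S5210 (U₆(2)): the field with four elements, monomial matrices
-/

set_option autoImplicit false

namespace Cfsg.Agent.H12.P4

/-- the field with four elements -/
inductive L : Type
  | z | o | w | v
  deriving DecidableEq

instance : Fintype L := ⟨{L.z, L.o, L.w, L.v}, by intro x; cases x <;> decide⟩

namespace L

def add : L → L → L
  | z, x => x
  | x, z => x
  | o, o => z
  | o, w => v
  | o, v => w
  | w, o => v
  | w, w => z
  | w, v => o
  | v, o => w
  | v, w => o
  | v, v => z

def mul : L → L → L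
  | z, _ => z
  | _, z => z
  | o, x => x
  | x, o => x
  | w, w => v
  | w, v => o
  | v, w => o
  | v, v => w

def inv : L → L
  | z => z
  | o => o
  | w => v
  | v => w

instance : Zero L := ⟨z⟩
instance : One L := ⟨o⟩
instance : Add L := ⟨add⟩
instance : Mul L := ⟨mul⟩
instance : Neg L := ⟨id⟩
instance : Inv L := ⟨inv⟩

instance : Field L where
  add_assoc := by decide
  zero_add := by decide
  add_zero := by decide
  add_comm := by decide
  neg_add_cancel := by decide
  mul_assoc := by decide
  one_mul := by decide
  mul_one := by decide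
  mul_comm := by decide
  left_distrib := by decide
  right_distrib := by decide
  zero_mul := by decide
  mul_zero := by decide
  exists_pair_ne := ⟨z, o, by decide⟩
  mul_inv_cancel := by decide
  inv_zero := rfl
  nsmul := nsmulRec
  zsmul := zsmulRec
  nnqsmul := _
  nnqsmul_def := fun _ _ => rfl
  qsmul := _
  qsmul_def := fun _ _ => rfl

instance : StarRing L where
  star := inv
  star_involutive := by unfold Function.Involutive; decide
  star_mul := by decide
  star_add := by decide

theorem star_def (x : L) : star x = x⁻¹ := rfl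

end L

/-- the cube roots of unity -/
def wp (k : ZMod 3) : L := if k = 0 then 1 else if k = 1 then L.w else L.v

theorem wp_zero : wp 0 = 1 := rfl

theorem wp_add : ∀ a b : ZMod 3, wp (a + b) = wp a * wp b := by decide

theorem wp_ne : ∀ a : ZMod 3, wp a ≠ 0 := by decide

theorem star_wp : ∀ a : ZMod 3, star (wp a) = wp (-a) := by decide

theorem exists_wp : ∀ x : L, x ≠ 0 → ∃ k, x = wp k := by decide

theorem wp_inj : ∀ a b : ZMod 3, wp a = wp b → a = b := by decide

theorem wp_mul_neg (a : ZMod 3) : wp a * wp (-a) = 1 := by rw [← wp_add, add_neg_cancel]; rfl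

theorem wp_neg_mul (a : ZMod 3) : wp (-a) * wp a = 1 := by rw [← wp_add, neg_add_cancel]; rfl

theorem wp_sum {n : Type*} (s : Finset n) (e : n → ZMod 3) : wp (∑ i ∈ s, e i) = ∏ i ∈ s, wp (e i) := by
  classical
  induction s using Finset.induction_on with
  | empty => rfl
  | insert a s ha ih => rw [Finset.sum_insert ha, Finset.prod_insert ha, wp_add, ih]

theorem two_eq : (2 : L) = 0 := by decide

theorem neg_eq : ∀ x : L, -x = x := by decide

section mm

variable {n : Type*} [Fintype n] [DecidableEq n]

/-- the monomial matrix `e_k ↦ ω^(e k) e_(π k)` -/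
def mm (π : Equiv.Perm n) (e : n → ZMod 3) : Matrix n n L := fun i k => if i = π k then wp (e k) else 0

omit [Fintype n] in
theorem mm_apply (π : Equiv.Perm n) (e : n → ZMod 3) (i k : n) : mm π e i k = if i = π k then wp (e k) else 0 := rfl

theorem mm_mul (π ρ : Equiv.Perm n) (e f : n → ZMod 3) :
    mm π e * mm ρ f = mm (π * ρ) (fun k => f k + e (ρ k)) := by
  ext i k
  rw [Matrix.mul_apply, Finset.sum_eq_single (ρ k)]
  · rw [mm_apply, mm_apply, mm_apply, if_pos rfl, Equiv.Perm.mul_apply]
    by_cases h : i = π (ρ k)
    · rw [if_pos h, if_pos h, wp_add, mul_comm]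
    · rw [if_neg h, if_neg h, zero_mul]
  · intro j _ hj
    rw [mm_apply ρ, if_neg hj, mul_zero]
  · intro h
    exact absurd (Finset.mem_univ _) h

omit [Fintype n] in
theorem mm_one : mm (1 : Equiv.Perm n) 0 = 1 := by
  ext i k
  rw [mm_apply, Matrix.one_apply]
  rfl

omit [Fintype n] in
theorem mm_star (π : Equiv.Perm n) (e : n → ZMod 3) :
    (mm π e).conjTranspose = mm π⁻¹ (fun k => - e (π⁻¹ k)) := by
  ext i k
  rw [Matrix.conjTranspose_apply, mm_apply, mm_apply]
  by_cases h : k = π i
  · have h' : i = π⁻¹ k := by rw [h]; exact (π.symm_apply_apply i).symm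
    rw [if_pos h, if_pos h', star_wp, h']
  · have h' : i ≠ π⁻¹ k := fun h2 => h (by rw [h2]; exact (π.apply_symm_apply k).symm)
    rw [if_neg h, if_neg h', star_zero]

theorem mm_unit (π : Equiv.Perm n) (e : n → ZMod 3) : mm π e * (mm π e).conjTranspose = 1 := by
  rw [mm_star, mm_mul, mul_inv_cancel, ← mm_one]
  congr 1
  funext k
  exact neg_add_cancel _

theorem det_mm (π : Equiv.Perm n) (e : n → ZMod 3) : (mm π e).det = wp (∑ i, e i) := by
  have h1 : mm π e = mm π 0 * mm 1 e := by
    rw [mm_mul]
    congr 1
    funext k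
    simp
  have h2 : mm (1 : Equiv.Perm n) e = Matrix.diagonal (fun i => wp (e i)) := by
    ext i k
    rw [mm_apply, Matrix.diagonal_apply]
    by_cases h : i = k
    · subst h; simp
    · rw [if_neg h, if_neg (by simpa using h)]
  have h3 : mm π 0 = (1 : Matrix n n L).submatrix (π⁻¹ : Equiv.Perm n) id := by
    ext i k
    rw [mm_apply, Matrix.submatrix_apply, Matrix.one_apply]
    have : (i = π k) ↔ (π⁻¹ i = id k) := by
      constructor
      · intro h; rw [h]; exact π.symm_apply_apply k
      · intro h
        have := congrArg π h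
        rw [show π (π⁻¹ i) = i from π.apply_symm_apply i] at this
        exact this
    by_cases h : i = π k
    · rw [if_pos h, if_pos (this.1 h)]; rfl
    · rw [if_neg h, if_neg (fun h' => h (this.2 h'))]
  rw [h1, Matrix.det_mul, h2, Matrix.det_diagonal, ← wp_sum, h3, Matrix.det_permute, Matrix.det_one, mul_one]
  have h4 : ((Equiv.Perm.sign (π⁻¹ : Equiv.Perm n) : ℤ) : L) = 1 := by
    rcases Int.units_eq_one_or (Equiv.Perm.sign (π⁻¹ : Equiv.Perm n)) with h | h <;> rw [h]
    · simp
    · simp [neg_eq]
  rw [h4, one_mul]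

omit [Fintype n] in
theorem mm_inj {π ρ : Equiv.Perm n} {e f : n → ZMod 3} (h : mm π e = mm ρ f) : π = ρ ∧ e = f := by
  have h1 : ∀ k, π k = ρ k ∧ e k = f k := by
    intro k
    have h2 := congrFun (congrFun h (π k)) k
    rw [mm_apply, mm_apply, if_pos rfl] at h2
    by_cases h3 : π k = ρ k
    · rw [if_pos h3] at h2
      exact ⟨h3, wp_inj _ _ h2⟩
    · rw [if_neg h3] at h2
      exact absurd h2 (wp_ne _)
  exact ⟨Equiv.ext fun k => (h1 k).1, funext fun k => (h1 k).2⟩

/-- unitary matrices with at most one entry in each column are monomial -/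
theorem mono_of_col {M : Matrix n n L} (hM : M * M.conjTranspose = 1)
    (hcol : ∀ k, ∃ i, ∀ j, M j k ≠ 0 → j = i) : ∃ π e, M = mm π e := by
  choose f hf using hcol
  have hM' : M.conjTranspose * M = 1 := mul_eq_one_comm.1 hM
  have hin : ∀ k l, ∑ i, star (M i k) * M i l = if k = l then 1 else 0 := by
    intro k l
    have := congrFun (congrFun hM' k) l
    rw [Matrix.mul_apply, Matrix.one_apply] at this
    exact this
  have hsum : ∀ k l, ∑ i, star (M i k) * M i l = star (M (f k) k) * M (f k) l := by
    intro k l
    rw [Finset.sum_eq_single (f k)]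
    · intro j _ hj
      have : M j k = 0 := by
        by_contra h
        exact hj (hf k j h)
      rw [this, star_zero, zero_mul]
    · intro h; exact absurd (Finset.mem_univ _) h
  have hne : ∀ k, M (f k) k ≠ 0 := by
    intro k h0
    have h1 := hin k k
    rw [hsum, h0, mul_zero, if_pos rfl] at h1
    exact zero_ne_one h1
  have hinj : Function.Injective f := by
    intro k l hkl
    by_contra hne'
    have h1 := hin k l
    rw [hsum, if_neg hne'] at h1
    rcases mul_eq_zero.1 h1 with h2 | h2
    · exact hne k (star_eq_zero.1 h2)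
    · rw [hkl] at h2
      exact hne l h2
  choose e he using fun k => exists_wp _ (hne k)
  refine ⟨Equiv.ofBijective f (Finite.injective_iff_bijective.1 hinj), e, ?_⟩
  ext i k
  rw [mm_apply, Equiv.ofBijective_apply]
  by_cases h : i = f k
  · rw [if_pos h, h, he]
  · rw [if_neg h]
    by_contra h1
    exact h (hf k i h1)

end mm

end Cfsg.Agent.H12.P4
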