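import Cfsg.Agent.H12.P4.Mat

/-!
# S5210 (U₆(2)): the group `GU₃(2)` and the four orthonormal frames
-/

set_option autoImplicit false

namespace Cfsg.Agent.H12.P4

open Matrix

/-- the coset representatives: `1` and the Fourier matrices -/
def Rm : Option (ZMod 3) → Matrix (ZMod 3) (ZMod 3) L
  | none => fun i k => if i = k then 1 else 0
  | some t => fun i k => wp (i * k + t * i * i - t * k * k)

theorem Rm_none : Rm none = 1 := by
  ext i k
  rw [Matrix.one_apply]
  rfl

theorem Rm_unit (s : Option (ZMod 3)) : Rm s * (Rm s)ᴴ = 1 := by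
  have h : ∀ (s : Option (ZMod 3)) (i j : ZMod 3), (∑ l, Rm s i l * star (Rm s j l)) = if i = j then 1 else 0 := by
    decide
  ext i j
  rw [Matrix.mul_apply, Matrix.one_apply]
  exact h s i j

theorem Rm_det (s : Option (ZMod 3)) : (Rm s).det = 1 := by
  have h : ∀ s : Option (ZMod 3), Rm s 0 0 * Rm s 1 1 * Rm s 2 2 - Rm s 0 0 * Rm s 1 2 * Rm s 2 1 -
      Rm s 0 1 * Rm s 1 0 * Rm s 2 2 + Rm s 0 1 * Rm s 1 2 * Rm s 2 0 + Rm s 0 2 * Rm s 1 0 * Rm s 2 1 -
      Rm s 0 2 * Rm s 1 1 * Rm s 2 0 = 1 := by decide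
  rw [← h s]
  exact Matrix.det_fin_three (Rm s)

/-- the function with the values `x, y, z` -/
def fn3 (x y z : L) : ZMod 3 → L := fun j => if j = 0 then x else if j = 1 then y else z

theorem fn3_eta (c : ZMod 3 → L) : fn3 (c 0) (c 1) (c 2) = c := by
  funext j
  have h : j = 0 ∨ j = 1 ∨ j = 2 := by
    revert j
    decide
  rcases h with rfl | rfl | rfl <;> rfl

theorem fou1 : ∀ x y z : L, (∑ j, star (fn3 x y z j) * fn3 x y z j = 1) →
    ∃ (s : Option (ZMod 3)) (i : ZMod 3), ∀ j, (∑ l, star (Rm s l j) * fn3 x y z l) ≠ 0 → j = i := by decide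

theorem fou2 : ∀ (x y z : L) (i0 : ZMod 3), (∑ j, star (fn3 x y z j) * fn3 x y z j = 1) → fn3 x y z i0 = 0 →
    ∃ i : ZMod 3, ∀ j, fn3 x y z j ≠ 0 → j = i := by decide

theorem fou3 : ∀ u s : Option (ZMod 3), (∃ i : ZMod 3, ∀ j, ((Rm u)ᴴ * Rm s) j 0 ≠ 0 → j = i) → u = s := by decide

theorem inner_col {B : Matrix (ZMod 3) (ZMod 3) L} (hB : B * Bᴴ = 1) (k l : ZMod 3) :
    ∑ j, star (B j k) * B j l = if k = l then 1 else 0 := by
  have h1 : Bᴴ * B = 1 := mul_eq_one_comm.1 hB
  have h2 := congrFun (congrFun h1 k) l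
  rw [Matrix.mul_apply, Matrix.one_apply] at h2
  exact h2

theorem cols_of_col {B : Matrix (ZMod 3) (ZMod 3) L} (hB : B * Bᴴ = 1) {i0 : ZMod 3} (hs : ∀ j, B j 0 ≠ 0 → j = i0)
    (k : ZMod 3) : ∃ i, ∀ j, B j k ≠ 0 → j = i := by
  have hne : B i0 0 ≠ 0 := by
    intro h0
    have h1 := inner_col hB 0 0
    rw [if_pos rfl, Finset.sum_eq_zero] at h1
    · exact zero_ne_one h1
    · intro j _
      by_cases hj : B j 0 = 0
      · rw [hj, mul_zero]
      · rw [hs j hj] at hj
        exact absurd h0 hj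
  by_cases hk : k = 0
  · subst hk
    exact ⟨i0, hs⟩
  · have hk0 : B i0 k = 0 := by
      have h1 := inner_col hB 0 k
      rw [if_neg (Ne.symm hk), Finset.sum_eq_single i0] at h1
      · exact (mul_eq_zero.1 h1).resolve_left (fun h => hne (star_eq_zero.1 h))
      · intro j _ hj
        have : B j 0 = 0 := by
          by_contra h
          exact hj (hs j h)
        rw [this, star_zero, zero_mul]
      · intro h; exact absurd (Finset.mem_univ _) h
    have h2 := fou2 (B 0 k) (B 1 k) (B 2 k) i0 (by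
      rw [fn3_eta (fun j => B j k)]
      exact (inner_col hB k k).trans (if_pos rfl)) (by
      rw [fn3_eta (fun j => B j k)]
      exact hk0)
    rw [fn3_eta (fun j => B j k)] at h2
    exact h2

/-- **the four frames** -/
theorem exists_Rm {A : Matrix (ZMod 3) (ZMod 3) L} (hA : A * Aᴴ = 1) :
    ∃ s : Option (ZMod 3), ∀ k, ∃ i, ∀ j, ((Rm s)ᴴ * A) j k ≠ 0 → j = i := by
  obtain ⟨s, i0, hs⟩ := fou1 (A 0 0) (A 1 0) (A 2 0) (by
    rw [fn3_eta (fun j => A j 0)]
    exact (inner_col hA 0 0).trans (if_pos rfl))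
  rw [fn3_eta (fun j => A j 0)] at hs
  have hB : ((Rm s)ᴴ * A) * ((Rm s)ᴴ * A)ᴴ = 1 := by
    rw [conjTranspose_mul, conjTranspose_conjTranspose, Matrix.mul_assoc, ← Matrix.mul_assoc A, hA, Matrix.one_mul]
    exact mul_eq_one_comm.1 (Rm_unit s)
  exact ⟨s, cols_of_col hB (i0 := i0) fun j hj => hs j (by
    rw [Matrix.mul_apply] at hj
    exact hj)⟩

/-- conjugation of the extraspecial group by the Fourier matrices -/
theorem Rm_conj (t r α β : ZMod 3) :
    Rm (some t) * mm (Equiv.addRight r) (fun k => α + β * k) =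
      mm (Equiv.addRight (2 * t * r - β)) (fun k => (α - t * r * r + (r + 2 * t * (2 * t * r - β)) * (2 * t * r - β) -
        t * (2 * t * r - β) * (2 * t * r - β)) + (r + 2 * t * (2 * t * r - β)) * k) * Rm (some t) := by
  ext i k
  rw [Matrix.mul_apply, Matrix.mul_apply, Finset.sum_eq_single (k + r), Finset.sum_eq_single (i - (2 * t * r - β))]
  · rw [mm_apply, mm_apply, if_pos (by rfl), if_pos (by
      show i = i - (2 * t * r - β) + (2 * t * r - β)
      ring)]
    show wp _ * wp _ = wp _ * wp _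
    rw [← wp_add, ← wp_add]
    congr 1
    ring
  · intro l _ hl
    rw [mm_apply, if_neg (fun h => hl (by
      have h' : i = l + (2 * t * r - β) := h
      rw [h']; ring)), zero_mul]
  · intro h; exact absurd (Finset.mem_univ _) h
  · intro l _ hl
    show _ * (if l = k + r then wp (α + β * k) else 0) = 0
    rw [if_neg hl, mul_zero]
  · intro h; exact absurd (Finset.mem_univ _) h

/-- block diagonal elements -/
def RR (s s' : Option (ZMod 3)) : SUt :=
  ⟨Matrix.fromBlocks (Rm s) 0 0 (Rm s'), by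
    rw [fromBlocks_conjTranspose, fromBlocks_multiply]
    simp only [conjTranspose_zero, Matrix.mul_zero, Matrix.zero_mul, add_zero, zero_add, Rm_unit]
    exact fromBlocks_one, by
    rw [det_fromBlocks_zero₂₁, Rm_det, Rm_det, one_mul]⟩

theorem coe_RR (s s' : Option (ZMod 3)) : (RR s s').1 = Matrix.fromBlocks (Rm s) 0 0 (Rm s') := rfl

/-- **(m6)** -/
theorem exists_RR {a : SUt} (h : (∀ i j, a.1 i j ≠ 0 → i.isLeft = j.isLeft) ∨ (∀ i j, a.1 i j ≠ 0 → i.isLeft = !j.isLeft)) :
    ∃ s s', ∀ k, ∃ i, ∀ j, ((RR s s')⁻¹ * a).1 j k ≠ 0 → j = i := by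
  have ha : a.1 * a.1ᴴ = 1 := a.2.1
  have hRR : ∀ s s', (RR s s')⁻¹.1 = Matrix.fromBlocks (Rm s)ᴴ 0 0 (Rm s')ᴴ := by
    intro s s'
    show (RR s s').1ᴴ = _
    rw [coe_RR, fromBlocks_conjTranspose, conjTranspose_zero]
  rcases h with h | h
  · have h12 : ∀ i j : ZMod 3, a.1 (.inl i) (.inr j) = 0 := fun i j => by
      by_contra hne
      exact absurd (h _ _ hne) (by simp)
    have h21 : ∀ i j : ZMod 3, a.1 (.inr i) (.inl j) = 0 := fun i j => by
      by_contra hne
      exact absurd (h _ _ hne) (by simp)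
    have he : a.1 = fromBlocks (a.1.toBlocks₁₁) 0 0 (a.1.toBlocks₂₂) := by
      conv_lhs => rw [← fromBlocks_toBlocks a.1]
      congr 1
      · ext i j; exact h12 i j
      · ext i j; exact h21 i j
    generalize a.1.toBlocks₁₁ = A at he
    generalize a.1.toBlocks₂₂ = B at he
    rw [he, fromBlocks_conjTranspose, fromBlocks_multiply, ← fromBlocks_one, fromBlocks_inj] at ha
    simp only [conjTranspose_zero, Matrix.mul_zero, Matrix.zero_mul, add_zero, zero_add] at ha
    obtain ⟨s, hs⟩ := exists_Rm ha.1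
    obtain ⟨s', hs'⟩ := exists_Rm ha.2.2.2
    refine ⟨s, s', fun k => ?_⟩
    rw [SUt.coe_mul, hRR, he, fromBlocks_multiply]
    simp only [Matrix.mul_zero, Matrix.zero_mul, add_zero, zero_add]
    rcases k with k | k
    · obtain ⟨i, hi⟩ := hs k
      refine ⟨.inl i, fun j hj => ?_⟩
      rcases j with j | j
      · exact congrArg _ (hi j hj)
      · exact absurd rfl hj
    · obtain ⟨i, hi⟩ := hs' k
      refine ⟨.inr i, fun j hj => ?_⟩
      rcases j with j | j
      · exact absurd rfl hj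
      · exact congrArg _ (hi j hj)
  · have h11 : ∀ i j : ZMod 3, a.1 (.inl i) (.inl j) = 0 := fun i j => by
      by_contra hne
      exact absurd (h _ _ hne) (by simp)
    have h22 : ∀ i j : ZMod 3, a.1 (.inr i) (.inr j) = 0 := fun i j => by
      by_contra hne
      exact absurd (h _ _ hne) (by simp)
    have he : a.1 = fromBlocks 0 (a.1.toBlocks₁₂) (a.1.toBlocks₂₁) 0 := by
      conv_lhs => rw [← fromBlocks_toBlocks a.1]
      congr 1
      · ext i j; exact h11 i j
      · ext i j; exact h22 i j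
    generalize a.1.toBlocks₁₂ = A at he
    generalize a.1.toBlocks₂₁ = B at he
    rw [he, fromBlocks_conjTranspose, fromBlocks_multiply, ← fromBlocks_one, fromBlocks_inj] at ha
    simp only [conjTranspose_zero, Matrix.mul_zero, Matrix.zero_mul, add_zero, zero_add] at ha
    obtain ⟨s, hs⟩ := exists_Rm ha.1
    obtain ⟨s', hs'⟩ := exists_Rm ha.2.2.2
    refine ⟨s, s', fun k => ?_⟩
    rw [SUt.coe_mul, hRR, he, fromBlocks_multiply]
    simp only [Matrix.mul_zero, Matrix.zero_mul, add_zero, zero_add]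
    rcases k with k | k
    · obtain ⟨i, hi⟩ := hs' k
      refine ⟨.inr i, fun j hj => ?_⟩
      rcases j with j | j
      · exact absurd rfl hj
      · exact congrArg _ (hi j hj)
    · obtain ⟨i, hi⟩ := hs k
      refine ⟨.inl i, fun j hj => ?_⟩
      rcases j with j | j
      · exact congrArg _ (hi j hj)
      · exact absurd rfl hj

/-- monomial quotients -/
theorem RR_inj {s s' u u' : Option (ZMod 3)} {π : Equiv.Perm N6} {e : N6 → ZMod 3} {he : e ∈ E0}
    (h : RR s s' = RR u u' * mo π e he) : s = u ∧ s' = u' := by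
  have h1 : (RR u u')⁻¹ * RR s s' = mo π e he := by rw [h, inv_mul_cancel_left]
  have h2 : Matrix.fromBlocks ((Rm u)ᴴ * Rm s) 0 0 ((Rm u')ᴴ * Rm s') = mm π e := by
    rw [← coe_mo π e he, ← h1, SUt.coe_mul]
    have : (RR u u')⁻¹.1 = Matrix.fromBlocks (Rm u)ᴴ 0 0 (Rm u')ᴴ := by
      show (RR u u').1ᴴ = _
      rw [coe_RR, fromBlocks_conjTranspose, conjTranspose_zero]
    rw [this, coe_RR, fromBlocks_multiply]
    simp only [Matrix.mul_zero, Matrix.zero_mul, add_zero, zero_add]
  constructor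
  · symm
    apply fou3
    have h3 : ∀ j : ZMod 3, ((Rm u)ᴴ * Rm s) j 0 = mm π e (.inl j) (.inl 0) := fun j => by rw [← h2]; rfl
    rcases h4 : π (.inl 0) with i | i
    · refine ⟨i, fun j hj => ?_⟩
      rw [h3, mm_apply, h4] at hj
      by_contra hne
      exact hj (if_neg (fun h => hne (Sum.inl_injective h)))
    · refine ⟨0, fun j hj => ?_⟩
      rw [h3, mm_apply, h4] at hj
      exact absurd (if_neg (by simp)) hj
  · symm
    apply fou3
    have h3 : ∀ j : ZMod 3, ((Rm u')ᴴ * Rm s') j 0 = mm π e (.inr j) (.inr 0) := fun j => by rw [← h2]; rfl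
    rcases h4 : π (.inr 0) with i | i
    · refine ⟨0, fun j hj => ?_⟩
      rw [h3, mm_apply, h4] at hj
      exact absurd (if_neg (by simp)) hj
    · refine ⟨i, fun j hj => ?_⟩
      rw [h3, mm_apply, h4] at hj
      by_contra hne
      exact hj (if_neg (fun h => hne (Sum.inr_injective h)))

end Cfsg.Agent.H12.P4
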