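import Cfsg.Agent.H12.P4.Six

/-!
# S5210 (U₆(2)): matrices commuting with or normalizing diagonal matrices
-/

set_option autoImplicit false

namespace Cfsg.Agent.H12.P4

/-- the inner products of the columns -/
theorem col_inner (a : SUt) (k l : N6) : ∑ i, star (a.1 i k) * a.1 i l = if k = l then 1 else 0 := by
  have := congrFun (congrFun a.star_mul_self k) l
  rw [Matrix.mul_apply, Matrix.one_apply] at this
  exact this

theorem row_inner (a : SUt) (k l : N6) : ∑ i, a.1 k i * star (a.1 l i) = if k = l then 1 else 0 := by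
  have := congrFun (congrFun a.2.1 k) l
  rw [Matrix.mul_apply, Matrix.one_apply] at this
  exact this

theorem exists_row (a : SUt) (i : N6) : ∃ j, a.1 i j ≠ 0 := by
  by_contra h
  push Not at h
  have h1 := row_inner a i i
  rw [if_pos rfl, Finset.sum_eq_zero fun j _ => by rw [h j, zero_mul]] at h1
  exact zero_ne_one h1

theorem exists_col (a : SUt) (j : N6) : ∃ i, a.1 i j ≠ 0 := by
  by_contra h
  push Not at h
  have h1 := col_inner a j j
  rw [if_pos rfl, Finset.sum_eq_zero fun i _ => by rw [h i, mul_zero]] at h1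
  exact zero_ne_one h1

/-- two columns are not supported in the same row -/
theorem col_single (a : SUt) {i0 j1 j2 : N6} (h1 : ∀ i, a.1 i j1 ≠ 0 → i = i0) (h2 : ∀ i, a.1 i j2 ≠ 0 → i = i0)
    (hne : j1 ≠ j2) : False := by
  have h3 := col_inner a j1 j2
  rw [if_neg hne, Finset.sum_eq_single i0] at h3
  · obtain ⟨i, hi⟩ := exists_col a j1
    obtain ⟨i', hi'⟩ := exists_col a j2
    have e1 := h1 i hi
    have e2 := h2 i' hi'
    subst e1
    subst e2
    rcases mul_eq_zero.1 h3 with h | h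
    · exact hi (star_eq_zero.1 h)
    · exact hi' h
  · intro i _ hi
    have : a.1 i j1 = 0 := by
      by_contra h
      exact hi (h1 i h)
    rw [this, star_zero, zero_mul]
  · intro h; exact absurd (Finset.mem_univ _) h

theorem mo_one_apply (e : N6 → ZMod 3) (he : e ∈ E0) (i k : N6) :
    (mo 1 e he).1 i k = if i = k then wp (e k) else 0 := rfl

/-- entries of a matrix intertwining two diagonal matrices -/
theorem entry_of_comm {a : SUt} {d d' : N6 → ZMod 3} {hd : d ∈ E0} {hd' : d' ∈ E0}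
    (h : mk a * mk (mo 1 d hd) = mk (mo 1 d' hd') * mk a) :
    ∃ k : ZMod 3, ∀ i j, a.1 i j ≠ 0 → d j = k + d' i := by
  rw [← map_mul, ← map_mul, mk_eq_iff] at h
  obtain ⟨k, hk⟩ := h
  refine ⟨-k, fun i j hij => ?_⟩
  have h1 := congrFun (congrFun hk i) j
  rw [SUt.coe_mul, SUt.coe_mul, Matrix.smul_apply, Matrix.mul_apply, Matrix.mul_apply,
    Finset.sum_eq_single i, Finset.sum_eq_single j] at h1
  · rw [mo_one_apply, mo_one_apply, if_pos rfl, if_pos rfl, smul_eq_mul, mul_comm (a.1 i j), ← mul_assoc,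
      ← wp_add] at h1
    have h2 := wp_inj _ _ (mul_right_cancel₀ hij h1)
    rw [h2]
    ring
  · intro l _ hl
    rw [mo_one_apply, if_neg hl, mul_zero]
  · intro h; exact absurd (Finset.mem_univ _) h
  · intro l _ hl
    rw [mo_one_apply, if_neg (Ne.symm hl), zero_mul]
  · intro h; exact absurd (Finset.mem_univ _) h

/-- **(m1)** elements commuting with `Y` are diagonal -/
theorem diag_of_comm {a : SUt} (h : ∀ (x y z : ZMod 3),
    mk a * mk (mo 1 (Ev x y z 0) (Ev_mem _ _ _ _)) = mk (mo 1 (Ev x y z 0) (Ev_mem _ _ _ _)) * mk a) :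
    ∃ (e : N6 → ZMod 3) (he : e ∈ E0), a = mo 1 e he := by
  obtain ⟨k1, hk1⟩ := entry_of_comm (h 0 1 0)
  obtain ⟨k2, hk2⟩ := entry_of_comm (h 0 0 1)
  obtain ⟨k3, hk3⟩ := entry_of_comm (h 1 0 0)
  have hk10 : k1 = 0 := by
    by_contra hne
    -- the row with `d_i = -k1`
    have hr : ∃ i0 : N6, ∀ i : N6, (0 : ZMod 3) = k1 + Ev 0 1 0 0 i → i = i0 := by
      revert hne
      generalize k1 = k
      revert k
      decide
    obtain ⟨i0, hi0⟩ := hr
    have hz0 : Ev 0 1 0 0 (.inr 0) = 0 := by decide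
    have hz1 : Ev 0 1 0 0 (.inr 1) = 0 := by decide
    refine col_single a (i0 := i0) (j1 := .inr 0) (j2 := .inr 1) (fun i hi => hi0 i ?_) (fun i hi => hi0 i ?_)
      (by decide)
    · rw [← hz0]; exact hk1 i _ hi
    · rw [← hz1]; exact hk1 i _ hi
  subst hk10
  -- the entry at `inl 0`
  obtain ⟨j, hj⟩ := exists_row a (.inl 0)
  have hj0 : j = .inl 0 := by
    have h1 := hk1 _ _ hj
    revert h1
    generalize j = j'
    revert j'
    decide
  subst hj0
  have hk20 : k2 = 0 := by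
    have h1 := hk2 _ _ hj
    exact (add_eq_right.1 h1.symm)
  have hk30 : k3 = 0 := by
    have h1 := hk3 _ _ hj
    exact (add_eq_right.1 h1.symm)
  subst hk20
  subst hk30
  have hdiag : ∀ i j, a.1 i j ≠ 0 → i = j := by
    intro i j hij
    have h1 := hk1 _ _ hij
    have h2 := hk2 _ _ hij
    have h3 := hk3 _ _ hij
    rw [zero_add] at h1 h2 h3
    revert h1 h2 h3
    clear hij
    revert i j
    decide
  obtain ⟨π, e, hM⟩ := mono_of_col a.2.1 (fun k => ⟨k, fun j hj => hdiag _ _ hj⟩)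
  have hπ : π = 1 := by
    ext k
    by_contra hne
    have h1 := hdiag (π k) k (by rw [hM, mm_apply, if_pos rfl]; exact wp_ne _)
    exact hne h1
  subst hπ
  have he : e ∈ E0 := by
    rw [mem_E0]
    have h1 := a.2.2
    rw [hM, det_mm] at h1
    exact wp_inj _ _ h1
  exact ⟨e, he, SUt.ext' hM⟩

/-- an element with a monomial matrix -/
theorem exists_mo {a : SUt} (h : ∀ k, ∃ i, ∀ j, a.1 j k ≠ 0 → j = i) :
    ∃ (π : Equiv.Perm N6) (e : N6 → ZMod 3) (he : e ∈ E0), a = mo π e he := by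
  obtain ⟨π, e, hM⟩ := mono_of_col a.2.1 h
  have he : e ∈ E0 := by
    rw [mem_E0]
    have h1 := a.2.2
    rw [hM, det_mm] at h1
    exact wp_inj _ _ h1
  exact ⟨π, e, he, SUt.ext' hM⟩

/-- separating two coordinates -/
theorem exists_sep (j k : N6) (h : j ≠ k) : ∃ d ∈ E0, d j ≠ d k := by
  have h1 : ∃ x y z c : ZMod 3, Ev x y z c j ≠ Ev x y z c k := by
    revert h
    revert j k
    decide
  obtain ⟨x, y, z, c, h2⟩ := h1
  exact ⟨_, Ev_mem _ _ _ _, h2⟩

/-- **(m2)** elements normalizing `V` are monomial -/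
theorem mono_of_norm {a : SUt} (h : ∀ d (hd : d ∈ E0), ∃ d', ∃ hd' : d' ∈ E0,
    mk a * mk (mo 1 d hd) = mk (mo 1 d' hd') * mk a) :
    ∃ (π : Equiv.Perm N6) (e : N6 → ZMod 3) (he : e ∈ E0), a = mo π e he := by
  have hrow : ∀ i j k, a.1 i j ≠ 0 → a.1 i k ≠ 0 → j = k := by
    intro i j k hj hk
    by_contra hne
    obtain ⟨d, hd, hdn⟩ := exists_sep j k hne
    obtain ⟨d', hd', h1⟩ := h d hd
    obtain ⟨t, ht⟩ := entry_of_comm h1
    exact hdn ((ht _ _ hj).trans (ht _ _ hk).symm)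
  obtain ⟨π, e, he, h2⟩ := exists_mo (a := a⁻¹) (fun k => by
    obtain ⟨j, hj⟩ := exists_row a k
    refine ⟨j, fun i hi => ?_⟩
    have h3 : (a⁻¹).1 i k = star (a.1 k i) := rfl
    rw [h3] at hi
    exact hrow k i j (fun h0 => hi (by rw [h0, star_zero])) hj)
  refine ⟨π⁻¹, fun k => - e (π⁻¹ k), E0.neg_mem (comp_mem π⁻¹ he), ?_⟩
  rw [← inv_inv a, h2, mo_inv]

/-- **(m5)** elements normalizing `Z` -/
theorem block_of_norm {a : SUt} {t : ZMod 3} (ht : t ≠ 0)
    (h : mk a * mk (mo 1 (Ev 1 0 0 0) (Ev_mem _ _ _ _)) = mk (mo 1 (Ev t 0 0 0) (Ev_mem _ _ _ _)) * mk a) :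
    (∀ i j, a.1 i j ≠ 0 → i.isLeft = j.isLeft) ∨ (∀ i j, a.1 i j ≠ 0 → i.isLeft = !j.isLeft) := by
  obtain ⟨k, hk⟩ := entry_of_comm h
  obtain ⟨j1, hj1⟩ := exists_row a (.inl 0)
  obtain ⟨j2, hj2⟩ := exists_row a (.inr 0)
  have h1 := hk _ _ hj1
  have h2 := hk _ _ hj2
  have key : ∀ (t k : ZMod 3), t ≠ 0 → (∃ j1 : N6, Ev 1 0 0 0 j1 = k + Ev t 0 0 0 (.inl 0)) →
      (∃ j2 : N6, Ev 1 0 0 0 j2 = k + Ev t 0 0 0 (.inr 0)) →
      (∀ i j : N6, Ev 1 0 0 0 j = k + Ev t 0 0 0 i → i.isLeft = j.isLeft) ∨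
      (∀ i j : N6, Ev 1 0 0 0 j = k + Ev t 0 0 0 i → i.isLeft = !j.isLeft) := by decide
  rcases key t k ht ⟨j1, h1⟩ ⟨j2, h2⟩ with h3 | h3
  · exact Or.inl fun i j hij => h3 i j (hk i j hij)
  · exact Or.inr fun i j hij => h3 i j (hk i j hij)

end Cfsg.Agent.H12.P4
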