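import Cfsg.Agent.H12.P4.Fou
import Cfsg.Agent.H1.P4.TI

/-!
# S5210 (U₆(2)): the normalizers of the Sylow subgroup and of `Q`
-/

set_option autoImplicit false

namespace Cfsg.Agent.H12.P4

open Cfsg.Agent.H776.P4 Cfsg.Agent.H756.PU
open Cfsg.Agent.H1.P4 (mem_PZ_of_comm char_PV char_PQ finite_PG)

universe u

/-- conjugations inducing automorphisms -/
theorem exists_aut {P A : Type*} [Group P] [Group A] [Finite P] (j : P →* A) (hj : Function.Injective j) (g : A)
    (h : ∀ x, ∃ y, g * j x * g⁻¹ = j y) : ∃ α : MulAut P, ∀ x, j (α x) = g * j x * g⁻¹ := by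
  choose f hf using h
  let F : P →* P :=
    { toFun := f
      map_one' := by
        apply hj
        rw [← hf, map_one, mul_one, mul_inv_cancel]
      map_mul' := fun x y => by
        apply hj
        rw [← hf, map_mul, map_mul, ← hf, ← hf]
        group }
  have hF : Function.Injective F := by
    intro x y hxy
    have h1 : g * j x * g⁻¹ = g * j y * g⁻¹ := by rw [hf, hf]; exact congrArg j hxy
    exact hj (mul_left_cancel (mul_right_cancel h1))
  exact ⟨MulEquiv.ofBijective F (Finite.injective_iff_bijective.1 hF), fun x => (hf x).symm⟩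

/-- the permutations preserving the two blocks -/
def blk : (Equiv.Perm (ZMod 3) × Equiv.Perm (ZMod 3)) × Bool → Equiv.Perm N6
  | ((p, q), false) => Equiv.sumCongr p q
  | ((p, q), true) => Equiv.sumCongr p q * Equiv.sumComm (ZMod 3) (ZMod 3)

theorem blk_injective : Function.Injective blk := by
  rintro ⟨⟨p, q⟩, b⟩ ⟨⟨p', q'⟩, b'⟩ h
  have hl : ∀ j, blk ((p, q), b) (.inl j) = blk ((p', q'), b') (.inl j) := fun j => by rw [h]
  have hr : ∀ j, blk ((p, q), b) (.inr j) = blk ((p', q'), b') (.inr j) := fun j => by rw [h]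
  cases b <;> cases b'
  · have h1 : p = p' := Equiv.ext fun j => Sum.inl_injective (hl j)
    have h2 : q = q' := Equiv.ext fun j => Sum.inr_injective (hr j)
    rw [h1, h2]
  · have := hl 0
    exact absurd this (by intro h; cases h)
  · have := hl 0
    exact absurd this (by intro h; cases h)
  · have h1 : p = p' := Equiv.ext fun j => Sum.inl_injective (hr j)
    have h2 : q = q' := Equiv.ext fun j => Sum.inr_injective (hl j)
    rw [h1, h2]

theorem exists_sumCongr {π : Equiv.Perm N6} (h : ∀ j, (π (.inl j)).isLeft = true) :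
    ∃ p q : Equiv.Perm (ZMod 3), π = Equiv.sumCongr p q := by
  have h1 : π ∈ (Equiv.Perm.sumCongrHom (ZMod 3) (ZMod 3)).range := by
    apply Equiv.Perm.mem_sumCongrHom_range_of_perm_mapsTo_inl
    rintro _ ⟨j, rfl⟩
    have h2 := h j
    rcases h3 : π (.inl j) with i | i
    · exact ⟨i, rfl⟩
    · rw [h3] at h2
      exact absurd h2 (by simp)
  obtain ⟨⟨p, q⟩, h2⟩ := h1
  exact ⟨p, q, h2.symm⟩

theorem exists_blk {π : Equiv.Perm N6} (h : (∀ j, (π (.inl j)).isLeft = true) ∨ (∀ j, (π (.inl j)).isLeft = false)) :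
    ∃ t, π = blk t := by
  rcases h with h | h
  · obtain ⟨p, q, rfl⟩ := exists_sumCongr h
    exact ⟨((p, q), false), rfl⟩
  · obtain ⟨p, q, h1⟩ := exists_sumCongr (π := Equiv.sumComm (ZMod 3) (ZMod 3) * π) (fun j => by
      have h2 := h j
      rw [Equiv.Perm.mul_apply]
      rcases h3 : π (.inl j) with i | i
      · rw [h3] at h2
        exact absurd h2 (by simp)
      · rfl)
    refine ⟨((q, p), true), ?_⟩
    have h2 : π = Equiv.sumComm (ZMod 3) (ZMod 3) * (Equiv.sumComm (ZMod 3) (ZMod 3) * π) := by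
      ext x
      rw [Equiv.Perm.mul_apply, Equiv.Perm.mul_apply]
      rcases π x with i | i <;> rfl
    rw [h2, h1]
    ext x
    rcases x with i | i <;> rfl

theorem perm_aff : ∀ (p : Equiv.Perm (ZMod 3)) (r : ZMod 3), ∃ s : ZMod 3, ∀ k, p (k + r) = p k + s := by decide

theorem blk_conj (t : (Equiv.Perm (ZMod 3) × Equiv.Perm (ZMod 3)) × Bool) (r1 r2 : ZMod 3) :
    ∃ s1 s2, blk t * Pr r1 r2 = Pr s1 s2 * blk t := by
  obtain ⟨⟨p, q⟩, b⟩ := t
  cases b
  · obtain ⟨s1, h1⟩ := perm_aff p r1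
    obtain ⟨s2, h2⟩ := perm_aff q r2
    refine ⟨s1, s2, Equiv.ext fun x => ?_⟩
    rcases x with k | k
    · show Sum.inl (p (k + r1)) = Sum.inl (p k + s1)
      rw [h1]
    · show Sum.inr (q (k + r2)) = Sum.inr (q k + s2)
      rw [h2]
  · obtain ⟨s2, h1⟩ := perm_aff q r1
    obtain ⟨s1, h2⟩ := perm_aff p r2
    refine ⟨s1, s2, Equiv.ext fun x => ?_⟩
    rcases x with k | k
    · show Sum.inr (q (k + r1)) = Sum.inr (q k + s2)
      rw [h1]
    · show Sum.inl (p (k + r2)) = Sum.inl (p k + s1)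
      rw [h2]

/-- **(m3)** -/
theorem blk_of_conj {π : Equiv.Perm N6} {s1 s2 : ZMod 3} (h : π * Pr 1 0 = Pr s1 s2 * π) : ∃ t, π = blk t := by
  have hx : ∀ x, π (Pr 1 0 x) = Pr s1 s2 (π x) := fun x => by
    rw [← Equiv.Perm.mul_apply, h, Equiv.Perm.mul_apply]
  have hfix : Pr s1 s2 (π (.inr 0)) = π (.inr 0) := by
    rw [← hx, Pr_inr, add_zero]
  have hmov : ∀ j, Pr s1 s2 (π (.inl j)) ≠ π (.inl j) := by
    intro j h1
    rw [← hx, Pr_inl] at h1
    have h2 := Sum.inl_injective (π.injective h1)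
    have h3 : (1 : ZMod 3) = 0 := by linear_combination h2
    exact absurd h3 (by decide)
  have hz : s1 = 0 ∨ s2 = 0 := by
    rcases h1 : π (.inr 0) with i | i
    · left
      rw [h1, Pr_inl] at hfix
      have := Sum.inl_injective hfix
      linear_combination this
    · right
      rw [h1, Pr_inr] at hfix
      have := Sum.inr_injective hfix
      linear_combination this
  apply exists_blk
  rcases hz with rfl | rfl
  · right
    intro j
    rcases h1 : π (.inl j) with i | i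
    · exfalso
      apply hmov j
      rw [h1, Pr_inl, add_zero]
    · rfl
  · left
    intro j
    rcases h1 : π (.inl j) with i | i
    · rfl
    · exfalso
      apply hmov j
      rw [h1, Pr_inr, add_zero]

/-! ### Exponent vectors -/

theorem Ev_surj {f : N6 → ZMod 3} (hf : f ∈ E0) : ∃ a b1 b2 k, ∀ j,
    Ev a b1 b2 (∑ i, f (.inl i)) j = f j + k := by
  rw [mem_E0, Fintype.sum_sum_type] at hf
  have hs : ∀ g : ZMod 3 → ZMod 3, ∑ i, g i = g 0 + g 1 + g 2 := fun g => Fin.sum_univ_three g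
  rw [hs, hs] at hf
  rw [hs]
  have h3 : (3 : ZMod 3) = 0 := rfl
  refine ⟨f (.inr 2) - f (.inl 2), f (.inl 0) - f (.inl 1), f (.inr 1) - f (.inr 0), - f (.inl 2), fun j => ?_⟩
  have hj : j = .inl 0 ∨ j = .inl 1 ∨ j = .inl 2 ∨ j = .inr 0 ∨ j = .inr 1 ∨ j = .inr 2 := by
    revert j
    decide
  rcases hj with rfl | rfl | rfl | rfl | rfl | rfl
  · simp only [Ev, Sum.elim_inl]
    linear_combination (-f (.inl 0)) * h3
  · simp only [Ev, Sum.elim_inl]
    linear_combination (-f (.inl 0)) * h3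
  · simp only [Ev, Sum.elim_inl]
    linear_combination (-2 * f (.inl 0) - f (.inl 2)) * h3
  · simp only [Ev, Sum.elim_inr]
    linear_combination hf - f (.inr 0) * h3
  · simp only [Ev, Sum.elim_inr]
    linear_combination hf - f (.inr 0) * h3
  · simp only [Ev, Sum.elim_inr]
    linear_combination (f (.inr 1) - f (.inr 0) + f (.inl 0) + f (.inl 1) + f (.inl 2)) * h3

section

variable {K : Type u} [Field K] [StarRing K] (C : Co K)

/-- **the image of the embedding** -/
theorem io6_surj (s1 s2 : ZMod 3) {f : N6 → ZMod 3} (hf : f ∈ E0) :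
    ∃ y : PG K, io6 C y = mk (mo (Pr s1 s2) f hf) ∧ C.re y.r = s1 ∧ C.im y.r = s2 ∧ C.re y.c = ∑ i, f (.inl i) := by
  obtain ⟨a, b1, b2, k, h⟩ := Ev_surj (comp_mem (Pr s1 s2)⁻¹ hf)
  obtain ⟨r', hr1, hr2⟩ := C.surj s1 s2
  obtain ⟨a', ha1, ha2⟩ := C.surj a 0
  obtain ⟨b', hb1, hb2⟩ := C.surj b1 b2
  obtain ⟨c', hc1, hc2⟩ := C.surj (∑ i, f ((Pr s1 s2)⁻¹ (.inl i))) 0
  have hcs : ∑ i, f ((Pr s1 s2)⁻¹ (.inl i)) = ∑ i, f (.inl i) := by
    have h1 : ∀ i, (Pr s1 s2)⁻¹ (.inl i) = .inl ((Equiv.addRight s1).symm i) := fun i => rfl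
    simp only [h1]
    exact Equiv.sum_comp (Equiv.addRight s1).symm (fun i => f (.inl i))
  refine ⟨⟨r', a', b', c', C.fix_im ha2, C.fix_im hc2⟩, ?_, hr1, hr2, by rw [← hcs]; exact hc1⟩
  rw [io6_apply, io, mk_mo_eq]
  refine ⟨by rw [hr1, hr2], -k, fun j => ?_⟩
  rw [ex]
  show f j = Ev (C.re a') (C.re b') (C.im b') (C.re c') (Pr (C.re r') (C.im r') j) + -k
  rw [hr1, hr2, ha1, hb1, hb2, hc1, h]
  have h2 : (Pr s1 s2)⁻¹ (Pr s1 s2 j) = j := (Pr s1 s2).symm_apply_apply j
  rw [h2]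
  ring

variable {p n : ℕ} (hK : HypK K p n)

include hK

/-- **(nS)** the normalizer of the Sylow subgroup -/
theorem nrmS_iff {a : SUt} : (∀ x : PG K, ∃ y : PG K, mk a * io6 C x * (mk a)⁻¹ = io6 C y) ↔
    ∃ t e, ∃ he : e ∈ E0, a = mo (blk t) e he := by
  constructor
  · intro h
    have hfin := finite_PG hK
    obtain ⟨α, hα⟩ := exists_aut (io6 C) (io6_injective C) (mk a) h
    obtain ⟨π, e, he, rfl⟩ := mono_of_norm (a := a) (fun d hd => by
      obtain ⟨y, hy, hr1, hr2, -⟩ := io6_surj C 0 0 hd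
      have hyV : y ∈ PV K := by
        show y.r = 0
        exact C.ext _ _ (hr1.trans C.re_zero.symm) (hr2.trans C.im_zero.symm)
      have h1 : (α y).r = 0 := char_PV hK α hyV
      refine ⟨ex C (α y), ex_mem C (α y), ?_⟩
      have h2 := hα y
      rw [hy] at h2
      have h3 : io6 C (α y) = mk (mo 1 (ex C (α y)) (ex_mem C (α y))) := by
        rw [io6_apply, io]
        congr 2
        rw [h1, C.re_zero, C.im_zero, Pr_zero]
      rw [← h3, h2, inv_mul_cancel_right]
      congr 3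
      exact Pr_zero.symm)
    obtain ⟨y, hy, -⟩ := io6_surj C 1 0 (f := 0) E0.zero_mem
    have h1 := hα y
    rw [hy, io6_apply, io] at h1
    have h2 : mk (mo (Pr (C.re (α y).r) (C.im (α y).r)) (ex C (α y)) (ex_mem C (α y))) * mk (mo π e he) =
        mk (mo π e he) * mk (mo (Pr 1 0) 0 E0.zero_mem) := by
      rw [h1, inv_mul_cancel_right]
    rw [← map_mul, ← map_mul, mo_mul, mo_mul, mk_mo_eq] at h2
    obtain ⟨t, ht⟩ := blk_of_conj h2.1.symm
    subst ht
    exact ⟨t, e, he, rfl⟩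
  · rintro ⟨t, e, he, rfl⟩ x
    obtain ⟨s1, s2, hs⟩ := blk_conj t (C.re x.r) (C.im x.r)
    have h1 : mk (mo (blk t) e he) * io6 C x * (mk (mo (blk t) e he))⁻¹ =
        mk (mo (blk t * Pr (C.re x.r) (C.im x.r) * (blk t)⁻¹) _
          (E0.add_mem (E0.neg_mem (comp_mem (blk t)⁻¹ he)) (comp_mem (blk t)⁻¹
            (E0.add_mem (ex_mem C x) (comp_mem (Pr (C.re x.r) (C.im x.r)) he))))) := by
      rw [io6_apply, ← map_inv, ← map_mul, ← map_mul, io, mo_mul, mo_inv, mo_mul]
      rfl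
    have h2 : blk t * Pr (C.re x.r) (C.im x.r) * (blk t)⁻¹ = Pr s1 s2 := by
      rw [hs, mul_inv_cancel_right]
    obtain ⟨y, hy, -⟩ := io6_surj C s1 s2 (E0.add_mem (E0.neg_mem (comp_mem (blk t)⁻¹ he)) (comp_mem (blk t)⁻¹
            (E0.add_mem (ex_mem C x) (comp_mem (Pr (C.re x.r) (C.im x.r)) he))))
    refine ⟨y, ?_⟩
    rw [h1, hy]
    congr 2

end

end Cfsg.Agent.H12.P4
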