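import Cfsg.Agent.H12.P4.Nrm
import Cfsg.Agent.H12.P4.Gen

/-!
# S5210 (U₆(2)): the normalizer of `Q`, centralizers
-/

set_option autoImplicit false

namespace Cfsg.Agent.H12.P4

open Cfsg.Agent.H776.P4 Cfsg.Agent.H756.PU Matrix
open Cfsg.Agent.H1.P4 (mem_PZ_of_comm char_PV char_PQ finite_PG PZ_comm PZ_le_PY PY_le_PQ)

universe u

theorem sum3 (g : ZMod 3 → ZMod 3) : ∑ i, g i = g 0 + g 1 + g 2 := Fin.sum_univ_three g

theorem sum_aff (α β : ZMod 3) : ∑ k : ZMod 3, (α + β * k) = 0 := by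
  revert α β
  decide

/-- affine exponents -/
def Af (α1 β1 α2 β2 : ZMod 3) : N6 → ZMod 3 := Sum.elim (fun k => α1 + β1 * k) (fun k => α2 + β2 * k)

theorem Af_mem (α1 β1 α2 β2 : ZMod 3) : Af α1 β1 α2 β2 ∈ E0 := by
  rw [mem_E0, Fintype.sum_sum_type]
  show ∑ k : ZMod 3, (α1 + β1 * k) + ∑ k : ZMod 3, (α2 + β2 * k) = 0
  rw [sum_aff, sum_aff, add_zero]

theorem mm_Pr (r1 r2 : ZMod 3) (f g : ZMod 3 → ZMod 3) :
    mm (Pr r1 r2) (Sum.elim f g) = fromBlocks (mm (Equiv.addRight r1) f) 0 0 (mm (Equiv.addRight r2) g) := by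
  ext i j
  rcases i with i | i <;> rcases j with j | j
  · show (if Sum.inl i = Pr r1 r2 (Sum.inl j) then _ else _) = (if i = j + r1 then _ else _)
    rw [Pr_inl]
    by_cases h : i = j + r1
    · rw [if_pos h, if_pos (congrArg _ h)]
      rfl
    · rw [if_neg h, if_neg (fun h' => h (Sum.inl_injective h'))]
  · show (if Sum.inl i = Pr r1 r2 (Sum.inr j) then _ else _) = _
    rw [Pr_inr, if_neg (by simp)]
    rfl
  · show (if Sum.inr i = Pr r1 r2 (Sum.inl j) then _ else _) = _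
    rw [Pr_inl, if_neg (by simp)]
    rfl
  · show (if Sum.inr i = Pr r1 r2 (Sum.inr j) then _ else _) = (if i = j + r2 then _ else _)
    rw [Pr_inr]
    by_cases h : i = j + r2
    · rw [if_pos h, if_pos (congrArg _ h)]
      rfl
    · rw [if_neg h, if_neg (fun h' => h (Sum.inr_injective h'))]

theorem Rm_conj' (s : Option (ZMod 3)) (r α β : ZMod 3) : ∃ r' α' β' : ZMod 3,
    Rm s * mm (Equiv.addRight r) (fun k => α + β * k) = mm (Equiv.addRight r') (fun k => α' + β' * k) * Rm s := by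
  cases s with
  | none => exact ⟨r, α, β, by rw [Rm_none, Matrix.one_mul, Matrix.mul_one]⟩
  | some t => exact ⟨_, _, _, Rm_conj t r α β⟩

theorem RR_conj (s s' : Option (ZMod 3)) (r1 r2 α1 β1 α2 β2 : ZMod 3) : ∃ r1' r2' α1' β1' α2' β2' : ZMod 3,
    RR s s' * mo (Pr r1 r2) (Af α1 β1 α2 β2) (Af_mem _ _ _ _) =
      mo (Pr r1' r2') (Af α1' β1' α2' β2') (Af_mem _ _ _ _) * RR s s' := by
  obtain ⟨r1', α1', β1', h1⟩ := Rm_conj' s r1 α1 β1
  obtain ⟨r2', α2', β2', h2⟩ := Rm_conj' s' r2 α2 β2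
  refine ⟨r1', r2', α1', β1', α2', β2', SUt.ext' ?_⟩
  rw [SUt.coe_mul, SUt.coe_mul, coe_RR, coe_mo, coe_mo, Af, Af, mm_Pr, mm_Pr, fromBlocks_multiply,
    fromBlocks_multiply, h1, h2]
  simp only [Matrix.mul_zero, Matrix.zero_mul, add_zero, zero_add]

section

variable {K : Type u} [Field K] [StarRing K] (C : Co K)

theorem ex_of_PQ {x : PG K} (hx : x ∈ PQ K) : ∃ α1 β1 α2 β2, io C x =
    mo (Pr (C.re x.r) (C.im x.r)) (Af α1 β1 α2 β2) (Af_mem _ _ _ _) := by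
  have hc : C.re x.c = 0 := by
    have : x.c = 0 := hx
    rw [this, C.re_zero]
  refine ⟨-C.re x.b - C.re x.b * C.re x.r, - C.re x.b, C.re x.a + C.im x.b + C.im x.b * C.im x.r, C.im x.b, ?_⟩
  apply SUt.ext'
  rw [io, coe_mo, coe_mo]
  congr 1
  funext j
  rw [ex, hc]
  rcases j with j | j
  · rw [Pr_inl]
    show - C.re x.b - 0 + (0 - C.re x.b) * (j + C.re x.r) - 0 * (j + C.re x.r) * (j + C.re x.r) =
      (-C.re x.b - C.re x.b * C.re x.r) + (- C.re x.b) * j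
    ring
  · rw [Pr_inr]
    show C.re x.a + C.im x.b + 0 + (C.im x.b - 0) * (j + C.im x.r) + 0 * (j + C.im x.r) * (j + C.im x.r) =
      (C.re x.a + C.im x.b + C.im x.b * C.im x.r) + C.im x.b * j
    ring

theorem io6_PQ (s1 s2 α1 β1 α2 β2 : ZMod 3) :
    ∃ y ∈ PQ K, io6 C y = mk (mo (Pr s1 s2) (Af α1 β1 α2 β2) (Af_mem _ _ _ _)) := by
  obtain ⟨y, hy, -, -, hc⟩ := io6_surj C s1 s2 (Af_mem α1 β1 α2 β2)
  refine ⟨y, ?_, hy⟩
  show y.c = 0
  apply C.ext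
  · rw [hc, C.re_zero]
    exact sum_aff _ _
  · rw [C.im_fix y.hc, C.im_zero]

theorem RR_norm (s s' : Option (ZMod 3)) {x : PG K} (hx : x ∈ PQ K) :
    ∃ y ∈ PQ K, mk (RR s s') * io6 C x * (mk (RR s s'))⁻¹ = io6 C y := by
  obtain ⟨α1, β1, α2, β2, h1⟩ := ex_of_PQ C hx
  obtain ⟨r1', r2', α1', β1', α2', β2', h2⟩ := RR_conj s s' (C.re x.r) (C.im x.r) α1 β1 α2 β2
  obtain ⟨y, hy, h3⟩ := io6_PQ C r1' r2' α1' β1' α2' β2'
  refine ⟨y, hy, ?_⟩
  rw [h3, io6_apply, h1, ← map_mul, h2, map_mul, mul_inv_cancel_right]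

/-- elements of `V` -/
theorem io6_PV {x : PG K} (hx : x ∈ PV K) :
    io6 C x = mk (mo 1 (Ev (C.re x.a) (C.re x.b) (C.im x.b) (C.re x.c)) (Ev_mem _ _ _ _)) := by
  have hr : x.r = 0 := hx
  rw [io6_apply, io]
  have h1 : Pr (C.re x.r) (C.im x.r) = 1 := by rw [hr, C.re_zero, C.im_zero, Pr_zero]
  rw [mk_mo_eq]
  refine ⟨h1, 0, fun j => ?_⟩
  rw [ex, h1, add_zero]
  rfl

theorem exists_PV (a b1 b2 c : ZMod 3) : ∃ x ∈ PV K, C.re x.a = a ∧ C.re x.b = b1 ∧ C.im x.b = b2 ∧ C.re x.c = c ∧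
    io6 C x = mk (mo 1 (Ev a b1 b2 c) (Ev_mem _ _ _ _)) := by
  obtain ⟨a', ha1, ha2⟩ := C.surj a 0
  obtain ⟨b', hb1, hb2⟩ := C.surj b1 b2
  obtain ⟨c', hc1, hc2⟩ := C.surj c 0
  refine ⟨⟨0, a', b', c', C.fix_im ha2, C.fix_im hc2⟩, rfl, ha1, hb1, hb2, hc1, ?_⟩
  subst ha1 hb1 hb2 hc1
  exact io6_PV C rfl

theorem exists_PY (a b1 b2 : ZMod 3) : ∃ x ∈ PY K, C.re x.a = a ∧ C.re x.b = b1 ∧ C.im x.b = b2 ∧
    io6 C x = mk (mo 1 (Ev a b1 b2 0) (Ev_mem _ _ _ _)) := by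
  obtain ⟨x, hx, h1, h2, h3, h4, h5⟩ := exists_PV C a b1 b2 0
  exact ⟨x, ⟨hx, C.ext _ _ (by rw [h4, C.re_zero]) (by rw [C.im_fix x.hc, C.im_zero])⟩, h1, h2, h3, h5⟩

theorem exists_PZ (a : ZMod 3) : ∃ x ∈ PZ K, C.re x.a = a ∧
    io6 C x = mk (mo 1 (Ev a 0 0 0) (Ev_mem _ _ _ _)) := by
  obtain ⟨x, hx, h1, h2, h3, h5⟩ := exists_PY C a 0 0
  exact ⟨x, ⟨hx.1, C.ext _ _ (by rw [h2, C.re_zero]) (by rw [h3, C.im_zero]), hx.2⟩, h1, h5⟩

theorem io6_PZ {x : PG K} (hx : x ∈ PZ K) : io6 C x = mk (mo 1 (Ev (C.re x.a) 0 0 0) (Ev_mem _ _ _ _)) := by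
  rw [io6_PV C (PZ_le_PY hx).1, mk_mo_eq]
  refine ⟨rfl, 0, fun j => ?_⟩
  have h1 : x.b = 0 := hx.2.1
  have h2 : x.c = 0 := hx.2.2
  rw [h1, h2, C.re_zero, C.im_zero, add_zero]

variable {p n : ℕ} (hK : HypK K p n)

/-- the embedding of `Q` -/
def ioQ : PQ K →* GG := (io6 C).comp (PQ K).subtype

theorem ioQ_apply (x : PQ K) : ioQ C x = io6 C (x : PG K) := rfl

theorem ioQ_injective : Function.Injective (ioQ C) := fun _ _ h => Subtype.ext (io6_injective C h)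

theorem mem_NJ_iff [Finite (PG K)] {a : SUt} : a ∈ NJ mk (ioQ C) (ioQ_injective C) ↔
    ∀ x : PQ K, ∃ y : PQ K, mk a * ioQ C x * (mk a)⁻¹ = ioQ C y := Iff.rfl

theorem RR_mem [Finite (PG K)] (s s' : Option (ZMod 3)) : RR s s' ∈ NJ mk (ioQ C) (ioQ_injective C) := by
  intro x
  obtain ⟨y, hy, h10⟩ := RR_norm C s s' x.2
  exact ⟨⟨y, hy⟩, h10⟩

include hK

/-- **(m5')** -/
theorem block_of_NJ [Finite (PG K)] {a : SUt} (h : a ∈ NJ mk (ioQ C) (ioQ_injective C)) :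
    (∀ i j, a.1 i j ≠ 0 → i.isLeft = j.isLeft) ∨ (∀ i j, a.1 i j ≠ 0 → i.isLeft = !j.isLeft) := by
  obtain ⟨α, hα⟩ := exists_aut (ioQ C) (ioQ_injective C) (mk a) h
  obtain ⟨z, hz, hz1, hz2⟩ := exists_PZ C 1
  let z' : PQ K := ⟨z, PY_le_PQ (PZ_le_PY hz)⟩
  have h1 : ((α z' : PQ K) : PG K) ∈ PZ K := by
    apply mem_PZ_of_comm hK
    intro y hy
    have h2 : ((⟨y, hy⟩ : PQ K)) = α (α⁻¹ ⟨y, hy⟩) := (MulAut.apply_inv_self _ _ _).symm
    have h3 : α z' * ⟨y, hy⟩ = ⟨y, hy⟩ * α z' := by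
      rw [h2, ← map_mul, ← map_mul]
      congr 1
      exact Subtype.ext (PZ_comm hz _)
    exact congrArg Subtype.val h3
  have h2 := io6_PZ C h1
  have h3 := hα z'
  rw [ioQ_apply, ioQ_apply, h2] at h3
  have h4 : io6 C (z' : PG K) = mk (mo 1 (Ev 1 0 0 0) (Ev_mem _ _ _ _)) := hz2
  rw [h4] at h3
  have ht : C.re ((α z' : PQ K) : PG K).a ≠ 0 := by
    intro h0
    have h5 : ((α z' : PQ K) : PG K) = 1 := by
      apply io6_injective C
      rw [h2, map_one, ← map_one mk]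
      have h6 : (1 : SUt) = mo 1 0 E0.zero_mem := SUt.ext' mm_one.symm
      rw [h6, mk_mo_eq]
      refine ⟨rfl, 0, fun j => ?_⟩
      rw [h0]
      rcases j with j | j
      · show (0 : ZMod 3) = - 0 - 0 + (0 - 0) * j - 0 * j * j + 0
        ring
      · show (0 : ZMod 3) = 0 + 0 + 0 + (0 - 0) * j + 0 * j * j + 0
        ring
    have h7 : z' = 1 := by
      apply α.injective
      rw [map_one]
      exact Subtype.ext h5
    have h8 : z = 1 := congrArg Subtype.val h7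
    rw [h8] at hz1
    have h9 : C.re (1 : PG K).a = 0 := C.re_zero
    rw [h9] at hz1
    exact absurd hz1 (by decide)
  exact block_of_norm (a := a) ht (by rw [h3, inv_mul_cancel_right])

/-- **(nQ)** -/
theorem nrmQ_iff [Finite (PG K)] {a : SUt} : a ∈ NJ mk (ioQ C) (ioQ_injective C) ↔
    ∃ s s' t e, ∃ he : e ∈ E0, a = RR s s' * mo (blk t) e he := by
  constructor
  · intro h
    obtain ⟨s, s', h6⟩ := exists_RR (block_of_NJ C hK h)
    obtain ⟨π, e, he, h7⟩ := exists_mo h6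
    have h8 : a = RR s s' * mo π e he := by rw [← h7, mul_inv_cancel_left]
    -- the monomial part is a block permutation
    have h9 : mo π e he ∈ NJ mk (ioQ C) (ioQ_injective C) := by
      rw [← h7]
      exact Subgroup.mul_mem _ (Subgroup.inv_mem _ (RR_mem C s s')) h
    have hne : ∀ j, (mo π e he).1 (π j) j ≠ 0 := fun j => by
      rw [coe_mo, mm_apply, if_pos rfl]
      exact wp_ne _
    obtain ⟨t, ht⟩ := exists_blk (π := π) (by
      rcases block_of_NJ C hK h9 with h10 | h10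
      · left
        intro j
        exact h10 _ _ (hne (.inl j))
      · right
        intro j
        exact h10 _ _ (hne (.inl j)))
    subst ht
    exact ⟨s, s', t, e, he, h8⟩
  · rintro ⟨s, s', t, e, he, rfl⟩
    have h2 : mo (blk t) e he ∈ NJ mk (ioQ C) (ioQ_injective C) := by
      intro x
      obtain ⟨α, hα⟩ := exists_aut (io6 C) (io6_injective C) (mk (mo (blk t) e he))
        ((nrmS_iff C hK).2 ⟨t, e, he, rfl⟩)
      exact ⟨⟨α x, char_PQ hK α x.2⟩, (hα x).symm⟩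
    exact Subgroup.mul_mem _ (RR_mem C s s') h2

/-! ### Centralizers -/

theorem diag_of_CJ [Finite (PG K)] {a : SUt} (h : ∀ y ∈ PY K, mk a * io6 C y = io6 C y * mk a) :
    ∃ (e : N6 → ZMod 3) (he : e ∈ E0), a = mo 1 e he := by
  apply diag_of_comm
  intro x y z
  obtain ⟨w, hw, -, -, -, h1⟩ := exists_PY C x y z
  rw [← h1]
  exact h w hw

omit hK in
theorem io6_diag {e : N6 → ZMod 3} (he : e ∈ E0) : ∃ y ∈ PV K, io6 C y = mk (mo 1 e he) := by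
  obtain ⟨y, hy, h1, h2, -⟩ := io6_surj C 0 0 he
  refine ⟨y, C.ext _ _ (h1.trans C.re_zero.symm) (h2.trans C.im_zero.symm), ?_⟩
  rw [hy, mk_mo_eq]
  exact ⟨Pr_zero, 0, fun j => (add_zero _).symm⟩

/-- **(cQ)** -/
theorem cenQ_iff [Finite (PG K)] {a : SUt} : a ∈ CJ mk (ioQ C) ↔ ∃ z ∈ PZ K, mk a = io6 C z := by
  constructor
  · intro h
    obtain ⟨e, he, rfl⟩ := diag_of_CJ C hK (a := a) (fun y hy => h ⟨y, PY_le_PQ hy⟩)
    obtain ⟨y, hy, h1⟩ := io6_diag C he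
    refine ⟨y, mem_PZ_of_comm hK fun w hw => ?_, h1.symm⟩
    apply io6_injective C
    rw [map_mul, map_mul, h1]
    exact h ⟨w, hw⟩
  · rintro ⟨z, hz, h1⟩ x
    rw [h1, ioQ_apply, ← map_mul, ← map_mul, PZ_comm hz]

/-- **(cS)** -/
theorem cenS_iff [Finite (PG K)] {a : SUt} : a ∈ CJ mk (io6 C) ↔ ∃ z ∈ PZ K, mk a = io6 C z := by
  constructor
  · intro h
    exact (cenQ_iff C hK).1 fun x => h x
  · rintro ⟨z, hz, h1⟩ x
    rw [h1, ← map_mul, ← map_mul, PZ_comm hz]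

end

end Cfsg.Agent.H12.P4
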