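import Cfsg.Agent.H12.P4.Card
import Cfsg.Agent.H781.Realized

/-!
# S5210 (U₆(2)): the fusion systems
-/

set_option autoImplicit false

namespace Cfsg.Agent.H12.P4

open Cfsg Cfsg.FusionSystem Cfsg.Agent.H776.P4 Cfsg.Agent.H756.PU Cfsg.Agent.H781 Matrix
open Cfsg.Agent.H1.P4 (exp_PG finite_PG)

universe u

section

variable {K : Type u} [Field K] [StarRing K] {p n : ℕ}

/-- the fusion system of a finite group containing `PG K` as a Sylow subgroup -/
theorem exists_sys {A : Type u} [Group A] [Finite A] [Fact p.Prime] (hK : HypK K p n) (j : PG K →* A)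
    (hj : Function.Injective j) (hidx : ¬ p ∣ j.range.index) :
    ∃ F : FusionSystem (⊤ : Subgroup (PG K)), F.IsSaturated p ∧ F.IsRealizable p ∧
      (∀ (Q : Subgroup (PG K)) (γ : MulAut Q), γ ∈ F.autGroup Q ↔
        ∃ g : A, ∀ e : Q, j ((γ e : Q) : PG K) = g * j e * g⁻¹) ∧
      (∀ α : MulAut (PG K), α ∈ AF F ↔ ∃ g : A, ∀ x, j (α x) = g * j x * g⁻¹) := by
  have hfin := finite_PG hK
  let ι : (⊤ : Subgroup (PG K)) →* A := j.comp (Subgroup.topEquiv (G := PG K)).toMonoidHom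
  have hι : ∀ x : (⊤ : Subgroup (PG K)), ι x = j (x : PG K) := fun x => rfl
  have hinj : Function.Injective ι := fun a b hab => Subtype.ext (hj hab)
  have hr : ι.range = j.range := by
    ext x
    constructor
    · rintro ⟨y, rfl⟩
      exact ⟨y, rfl⟩
    · rintro ⟨y, rfl⟩
      exact ⟨⟨y, trivial⟩, rfl⟩
  have hrangep : IsPGroup p ι.range := by
    rw [hr]
    rintro ⟨_, y, rfl⟩
    refine ⟨2, Subtype.ext ?_⟩
    show j y ^ p ^ 2 = 1
    rw [← map_pow, exp_PG hK, map_one]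
  let T : Sylow p A := hrangep.toSylow (by rw [hr]; exact hidx)
  have hT : (T : Subgroup A) = ι.range := rfl
  have hreal := pullback_isRealizedBy ι hinj
  have haut : ∀ (Q : Subgroup (PG K)) (γ : MulAut Q), γ ∈ (pullback ι hinj).autGroup Q ↔
      ∃ g : A, ∀ e : Q, j ((γ e : Q) : PG K) = g * j e * g⁻¹ := by
    intro Q γ
    rw [H802.mem_autGroup_iff _ le_top]
    constructor
    · rintro ⟨h1, h2, g, hg⟩
      exact ⟨g, fun e => hg e⟩
    · rintro ⟨g, hg⟩
      exact ⟨le_top, fun _ => trivial, g, fun e => hg e⟩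
  refine ⟨pullback ι hinj, isSaturated_of_isRealizedBy hreal T hT, ⟨A, inferInstance, inferInstance, ι, hreal, T, hT⟩,
    haut, fun α => ?_⟩
  have h1 : α ∈ AF (pullback ι hinj) ↔
      (MulAut.congr (Subgroup.topEquiv (G := PG K))).symm α ∈ (pullback ι hinj).autGroup ⊤ := by
    constructor
    · rintro ⟨β, hβ, rfl⟩
      rw [MulEquiv.coe_toMonoidHom, MulEquiv.symm_apply_apply]
      exact hβ
    · intro h
      exact ⟨_, h, MulEquiv.apply_symm_apply _ _⟩
  rw [h1, haut]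
  constructor
  · rintro ⟨g, hg⟩
    exact ⟨g, fun x => hg ⟨x, trivial⟩⟩
  · rintro ⟨g, hg⟩
    exact ⟨g, fun x => hg x⟩

/-- the same for a group in any universe -/
theorem exists_sys' {A : Type} [Group A] [Finite A] [Fact p.Prime] (hK : HypK K p n) (j : PG K →* A)
    (hj : Function.Injective j) (hidx : ¬ p ∣ j.range.index) :
    ∃ F : FusionSystem (⊤ : Subgroup (PG K)), F.IsSaturated p ∧ F.IsRealizable p ∧
      (∀ (Q : Subgroup (PG K)) (γ : MulAut Q), γ ∈ F.autGroup Q ↔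
        ∃ g : A, ∀ e : Q, j ((γ e : Q) : PG K) = g * j e * g⁻¹) ∧
      (∀ α : MulAut (PG K), α ∈ AF F ↔ ∃ g : A, ∀ x, j (α x) = g * j x * g⁻¹) := by
  let up : A ≃* ULift.{u} A := MulEquiv.ulift.symm
  have hfinA : Finite (ULift.{u} A) := Finite.of_equiv A up.toEquiv
  have hj' : Function.Injective (up.toMonoidHom.comp j) := up.injective.comp hj
  have hidx' : ¬ p ∣ (up.toMonoidHom.comp j).range.index := by
    have h1 : (up.toMonoidHom.comp j).range = j.range.map up.toMonoidHom := by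
      rw [MonoidHom.range_comp]
    rw [h1, Subgroup.index_map_of_bijective up.bijective]
    exact hidx
  obtain ⟨F, h1, h2, h3, h4⟩ := exists_sys hK (up.toMonoidHom.comp j) hj' hidx'
  refine ⟨F, h1, h2, fun Q γ => (h3 Q γ).trans ?_, fun α => (h4 α).trans ?_⟩
  · constructor
    · rintro ⟨g, hg⟩
      refine ⟨up.symm g, fun e => ?_⟩
      apply up.injective
      rw [map_mul, map_mul, map_inv, up.apply_symm_apply]
      exact hg e
    · rintro ⟨g, hg⟩
      refine ⟨up g, fun e => ?_⟩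
      have := congrArg up (hg e)
      rw [map_mul, map_mul, map_inv] at this
      exact this
  · constructor
    · rintro ⟨g, hg⟩
      refine ⟨up.symm g, fun e => ?_⟩
      apply up.injective
      rw [map_mul, map_mul, map_inv, up.apply_symm_apply]
      exact hg e
    · rintro ⟨g, hg⟩
      refine ⟨up g, fun e => ?_⟩
      have := congrArg up (hg e)
      rw [map_mul, map_mul, map_inv] at this
      exact this

end

theorem p_eq {K : Type u} [Field K] [StarRing K] {p n : ℕ} (hK : HypK K p n) (hq : p ^ n = 3) : p = 3 := by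
  have h1 : p ∣ 3 := by
    rw [← hq]
    exact dvd_pow_self p (by have := hK.hn; omega)
  exact (Nat.prime_dvd_prime_iff_eq hK.pp Nat.prime_three).1 h1

/-! ### The parabolic subgroups are not normalized -/

section

variable {K : Type u} [Field K] [StarRing K] (C : Co K) {p n : ℕ}

instance : Finite GG := Quotient.finite _

theorem normal_PV : (PV K).Normal := by
  constructor
  intro g h1 y
  have h1' : g.r = 0 := h1
  show (y * g * y⁻¹).r = 0
  simp [h1']

theorem normal_PQ : (PQ K).Normal := by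
  constructor
  intro g h1 y
  have h1' : g.c = 0 := h1
  show (y * g * y⁻¹).c = 0
  simp [h1']

theorem conj_of_norm {Q : Subgroup (PG K)} [Q.Normal] (hQ : PY K ≤ Q) {γ : MulAut Q} {a : SUt}
    (h : ∀ e : Q, io6 C (γ e : Q) = mk a * io6 C e * (mk a)⁻¹) (hn : NormAut (⊤ : Subgroup (PG K)) γ) (x : PG K) :
    ∃ s1 s2 f, ∃ hf : f ∈ E0, a * io C x = mo (Pr s1 s2) f hf * a := by
  have h1 := hn (MulAut.conjNormal x) ((H802.mem_autInducedBy_iff _ _ _).2 ⟨x, trivial, fun e => rfl⟩)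
  obtain ⟨y, -, hy⟩ := (H802.mem_autInducedBy_iff _ _ _).1 h1
  have h2 : ∀ e : Q, mk a * io6 C x * (mk a)⁻¹ * io6 C e * (mk a * io6 C x * (mk a)⁻¹)⁻¹ =
      io6 C y * io6 C e * (io6 C y)⁻¹ := by
    intro e
    have h3 := congrArg (io6 C) (hy e)
    rw [MulAut.mul_apply, MulAut.mul_apply, h, map_mul, map_mul, map_inv] at h3
    rw [← h3]
    have h4 : (((MulAut.conjNormal x (γ⁻¹ e) : Q)) : PG K) = x * ((γ⁻¹ e : Q) : PG K) * x⁻¹ := rfl
    rw [h4, map_mul, map_mul, map_inv]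
    have h5 := h (γ⁻¹ e)
    rw [MulAut.apply_inv_self] at h5
    rw [h5]
    group
  obtain ⟨f, hf, h3⟩ := diag_of_comm (a := (io C y)⁻¹ * (a * io C x * a⁻¹)) (by
    intro u v w
    obtain ⟨t, ht, -, -, -, h4⟩ := exists_PY C u v w
    have h5 := h2 ⟨t, hQ ht⟩
    have h6 : io6 C ((⟨t, hQ ht⟩ : Q) : PG K) = mk (mo 1 (Ev u v w 0) (Ev_mem _ _ _ _)) := h4
    rw [h6] at h5
    have h7 : mk ((io C y)⁻¹ * (a * io C x * a⁻¹)) = (io6 C y)⁻¹ * (mk a * io6 C x * (mk a)⁻¹) := by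
      rw [map_mul, map_mul, map_mul, map_inv, map_inv]
      rfl
    rw [h7]
    generalize io6 C y = Y at h5 ⊢
    generalize mk a * io6 C x * (mk a)⁻¹ = X at h5 ⊢
    generalize mk (mo 1 (Ev u v w 0) (Ev_mem _ _ _ _)) = E at h5 ⊢
    have h8 : Y⁻¹ * (X * E * X⁻¹) * X = Y⁻¹ * (Y * E * Y⁻¹) * X := by rw [h5]
    rw [show Y⁻¹ * (X * E * X⁻¹) * X = Y⁻¹ * X * E by group, show Y⁻¹ * (Y * E * Y⁻¹) * X = E * (Y⁻¹ * X) by group] at h8
    exact h8)
  refine ⟨C.re y.r, C.im y.r, _, E0.add_mem hf (comp_mem 1 (ex_mem C y)), ?_⟩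
  have h4 : a * io C x = io C y * ((io C y)⁻¹ * (a * io C x * a⁻¹)) * a := by group
  rw [h4, h3, io, mo_mul]
  congr 1

/-- the swap of two coordinates in different blocks -/
def sw : SUt := mo (Equiv.swap (.inl 0) (.inr 0)) 0 E0.zero_mem

theorem nnV {γ : MulAut (PV K)} (h : ∀ e : PV K, io6 C (γ e : PV K) = mk sw * io6 C e * (mk sw)⁻¹) :
    ¬ NormAut (⊤ : Subgroup (PG K)) γ := by
  intro hn
  have hN := normal_PV (K := K)
  obtain ⟨x, -, h1, h2, -⟩ := io6_surj C 1 0 E0.zero_mem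
  obtain ⟨s1, s2, f, hf, h3⟩ := conj_of_norm C Cfsg.Agent.H1.P4.PY_le_PV h hn x
  rw [sw, io, mo_mul, mo_mul, h1, h2] at h3
  obtain ⟨h4, -⟩ := mm_inj (congrArg Subtype.val h3)
  have h5 : (Equiv.swap (Sum.inl 0) (Sum.inr 0) : Equiv.Perm N6) (Pr 1 0 (.inl 0)) =
      Pr s1 s2 ((Equiv.swap (Sum.inl 0) (Sum.inr 0) : Equiv.Perm N6) (.inl 0)) := by
    rw [← Equiv.Perm.mul_apply, h4, Equiv.Perm.mul_apply]
  rw [Equiv.swap_apply_left, Pr_inr, Pr_inl, zero_add,
    Equiv.swap_apply_of_ne_of_ne (by decide) (by decide)] at h5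
  exact absurd h5 (by simp)

theorem exists_V [Finite (PG K)] : ∃ γ : MulAut (PV K), ∀ e : PV K, io6 C (γ e : PV K) = mk sw * io6 C e * (mk sw)⁻¹ := by
  have hj : Function.Injective ((io6 C).comp (PV K).subtype) := fun _ _ h => Subtype.ext (io6_injective C h)
  obtain ⟨γ, hγ⟩ := exists_aut ((io6 C).comp (PV K).subtype) hj (mk sw) (by
    intro x
    show ∃ y : PV K, mk sw * io6 C x * (mk sw)⁻¹ = io6 C y
    rw [io6_PV C x.2, sw, ← map_mul, ← map_inv, ← map_mul, mo_mul, mo_inv, mo_mul]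
    obtain ⟨y, hy, h1⟩ := io6_diag C (E0.add_mem (E0.neg_mem (comp_mem (Equiv.swap (Sum.inl 0) (Sum.inr 0))⁻¹ E0.zero_mem))
      (comp_mem (Equiv.swap (Sum.inl 0) (Sum.inr 0))⁻¹ (E0.add_mem
        (Ev_mem (C.re (x : PG K).a) (C.re (x : PG K).b) (C.im (x : PG K).b) (C.re (x : PG K).c))
        (comp_mem 1 E0.zero_mem))))
    refine ⟨⟨y, hy⟩, ?_⟩
    rw [h1, mk_mo_eq]
    refine ⟨by rw [mul_one, mul_inv_cancel], 0, fun j => (add_zero _).symm⟩)
  exact ⟨γ, hγ⟩

theorem nnQ {γ : MulAut (PQ K)} (h : ∀ e : PQ K, io6 C (γ e : PQ K) = mk (RR (some 0) none) * io6 C e *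
    (mk (RR (some 0) none))⁻¹) : ¬ NormAut (⊤ : Subgroup (PG K)) γ := by
  intro hn
  have hN := normal_PQ (K := K)
  obtain ⟨x, hx, ha, hb1, hb2, hc, -⟩ := exists_PV C 0 0 0 1
  obtain ⟨s1, s2, f, hf, h3⟩ := conj_of_norm C Cfsg.Agent.H1.P4.PY_le_PQ h hn x
  have hxr : x.r = 0 := hx
  have h4 : ∀ k : ZMod 3, s1 * k + (-1 + k - k * k) = f (.inl 0) := by
    intro k
    have h5 := congrFun (congrFun (congrArg Subtype.val h3) (.inl s1)) (.inl k)
    rw [SUt.coe_mul, SUt.coe_mul, Matrix.mul_apply, Matrix.mul_apply, Finset.sum_eq_single (.inl k),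
      Finset.sum_eq_single (.inl 0)] at h5
    · rw [coe_RR, io, coe_mo, coe_mo, mm_apply, mm_apply, hxr, C.re_zero, C.im_zero, Pr_zero,
        if_pos (show (Sum.inl k : N6) = (1 : Equiv.Perm N6) (Sum.inl k) from rfl),
        if_pos (show (Sum.inl s1 : N6) = Pr s1 s2 (Sum.inl 0) by rw [Pr_inl, zero_add])] at h5
      have h6 : wp (s1 * k + 0 * s1 * s1 - 0 * k * k) * wp (ex C x (.inl k)) =
        wp (f (.inl 0)) * wp (0 * k + 0 * 0 * 0 - 0 * k * k) := h5
      rw [← wp_add, ← wp_add] at h6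
      have h7 := wp_inj _ _ h6
      have h8 : ex C x (.inl k) = -1 + k - k * k := by
        rw [ex, ha, hb1, hb2, hc, hxr, C.re_zero, C.im_zero, Pr_inl]
        show -0 - 1 + (1 - 0) * (k + 0) - 1 * (k + 0) * (k + 0) = -1 + k - k * k
        ring
      rw [h8] at h7
      linear_combination h7
    · intro l _ hl
      rw [coe_mo, mm_apply, if_neg, zero_mul]
      intro h6
      apply hl
      rcases l with l | l
      · rw [Pr_inl] at h6
        have := Sum.inl_injective h6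
        congr 1
        linear_combination -this
      · rw [Pr_inr] at h6
        exact absurd h6 (by simp)
    · intro h; exact absurd (Finset.mem_univ _) h
    · intro l _ hl
      rw [io, coe_mo, mm_apply, hxr, C.re_zero, C.im_zero, Pr_zero, if_neg, mul_zero]
      exact hl
    · intro h; exact absurd (Finset.mem_univ _) h
  have h5 := h4 0
  have h6 := h4 1
  have h7 := h4 2
  revert h5 h6 h7
  generalize f (.inl 0) = t
  revert t
  generalize s1 = s
  revert s
  decide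

theorem exists_Q [Finite (PG K)] : ∃ γ : MulAut (PQ K), ∀ e : PQ K, io6 C (γ e : PQ K) =
    mk (RR (some 0) none) * io6 C e * (mk (RR (some 0) none))⁻¹ := by
  obtain ⟨γ, hγ⟩ := exists_aut (ioQ C) (ioQ_injective C) (mk (RR (some 0) none)) (RR_mem C _ _)
  exact ⟨γ, hγ⟩

end

end Cfsg.Agent.H12.P4
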