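import Cfsg.Agent.H12.P4.Sys

/-!
# S5210: `U₆(2)`
-/

set_option autoImplicit false

namespace Cfsg.Agent.H12.P4

open Cfsg Cfsg.FusionSystem Cfsg.Agent.H776.P4 Cfsg.Agent.H756.PU
open Cfsg.Agent.H1.P4 (finite_PG)

universe u

/-- **`U₆(2)`** -/
theorem stThreeP_u6 : StThreeP.{u} 8 384 := by
  intro K _ _ p n _ hK hq
  obtain ⟨C⟩ := exists_co hK hq
  have hfin := finite_PG hK
  have hp := p_eq hK hq
  subst hp
  obtain ⟨F, h1, h2, h3, h4⟩ := exists_sys' hK (io6 C) (io6_injective C) (index_syl C hK)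
  refine ⟨F, h1, h2, ?_, ?_, ?_, ?_⟩
  · have h5 := card_induced mk mk_surj (io6 C) (io6_injective C) (AF F) h4
    rw [card_cen C _ (fun _ => cenS_iff C hK), card_NS C hK] at h5
    omega
  · have h5 := card_induced mk mk_surj (ioQ C) (ioQ_injective C) (F.autGroup (PQ K)) (h3 _)
    rw [card_cen C _ (fun _ => cenQ_iff C hK), card_NQ C hK] at h5
    omega
  · obtain ⟨γ, hγ⟩ := exists_V C
    exact fun h => nnV C hγ (h γ ((h3 _ _).2 ⟨_, hγ⟩))
  · obtain ⟨γ, hγ⟩ := exists_Q C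
    exact fun h => nnQ C hγ (h γ ((h3 _ _).2 ⟨_, hγ⟩))

end Cfsg.Agent.H12.P4
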