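import Cfsg.Agent.H12.P4.U6

/-!
# S5210: `U₆(2).2`
-/

set_option autoImplicit false

namespace Cfsg.Agent.H12.P4

open Cfsg Cfsg.FusionSystem Cfsg.Agent.H776.P4 Cfsg.Agent.H756.PU Matrix
open Cfsg.Agent.H1.P4 (finite_PG PY_le_PQ)

universe u

/-- the Frobenius automorphism -/
def cj : SUt →* SUt where
  toFun a := ⟨a.1.map (starRingEnd L), by
    have h1 : (a.1.map (starRingEnd L))ᴴ = a.1ᴴ.map (starRingEnd L) := rfl
    rw [h1, ← Matrix.map_mul, a.2.1, Matrix.map_one _ (map_zero _) (map_one _)], by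
    have h1 := (starRingEnd L).map_det a.1
    rw [a.2.2, map_one] at h1
    exact h1.symm⟩
  map_one' := SUt.ext' (Matrix.map_one _ (map_zero _) (map_one _))
  map_mul' a b := SUt.ext' (Matrix.map_mul)

theorem cj_coe (a : SUt) : (cj a).1 = a.1.map (starRingEnd L) := rfl

theorem cj_cj (a : SUt) : cj (cj a) = a := by
  apply SUt.ext'
  ext i j
  exact star_star (a.1 i j)

theorem cj_mo (π : Equiv.Perm N6) {e : N6 → ZMod 3} (he : e ∈ E0) :
    cj (mo π e he) = mo π (-e) (E0.neg_mem he) := by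
  apply SUt.ext'
  ext i j
  show star (if i = π j then wp (e j) else 0) = if i = π j then wp (- e j) else 0
  by_cases h : i = π j
  · rw [if_pos h, if_pos h, star_wp]
  · rw [if_neg h, if_neg h, star_zero]

theorem cj_Zs : Zs ≤ Zs.comap cj := by
  rintro a ⟨k, hk⟩
  refine ⟨-k, ?_⟩
  rw [cj_coe, hk]
  ext i j
  show star (wp k * (1 : Matrix N6 N6 L) i j) = wp (-k) * (1 : Matrix N6 N6 L) i j
  rw [star_mul', star_wp, Matrix.one_apply]
  by_cases h : i = j
  · rw [if_pos h, star_one]
  · rw [if_neg h, star_zero]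

/-- the Frobenius automorphism of `PSU₆(2)` -/
def fg : GG →* GG := QuotientGroup.map Zs Zs cj cj_Zs

theorem fg_mk (a : SUt) : fg (mk a) = mk (cj a) := rfl

theorem fg_fg (x : GG) : fg (fg x) = x := by
  obtain ⟨a, rfl⟩ := mk_surj x
  rw [fg_mk, fg_mk, cj_cj]

/-- the Frobenius automorphism of `PSU₆(2)` -/
def fgE : MulAut GG := MonoidHom.toMulEquiv fg fg (MonoidHom.ext fg_fg) (MonoidHom.ext fg_fg)

theorem fgE_apply (x : GG) : fgE x = fg x := rfl

theorem fgE_sq : fgE ^ 2 = 1 := by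
  ext1 x
  rw [pow_two]
  exact fg_fg x

theorem mem_zp {τ : MulAut GG} (h : τ ∈ Subgroup.zpowers fgE) : τ = 1 ∨ τ = fgE := by
  obtain ⟨k, rfl⟩ := h
  show fgE ^ k = 1 ∨ fgE ^ k = fgE
  have h2 : fgE ^ (2 : ℤ) = 1 := by exact_mod_cast fgE_sq
  rcases Int.even_or_odd' k with ⟨m, rfl | rfl⟩
  · left
    rw [_root_.zpow_mul, h2, _root_.one_zpow]
  · right
    rw [_root_.zpow_add, _root_.zpow_mul, h2, _root_.one_zpow, one_mul, _root_.zpow_one]

theorem card_zp : ¬ 3 ∣ Nat.card (Subgroup.zpowers fgE) := by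
  rw [Nat.card_zpowers]
  intro h
  exact absurd (h.trans (orderOf_dvd_of_pow_eq_one fgE_sq)) (by decide)

/-- **the Frobenius automorphism is not induced** -/
theorem not_neg {a : SUt} (h : ∀ x y z : ZMod 3, mk a * mk (mo 1 (Ev x y z 0) (Ev_mem _ _ _ _)) =
    mk (mo 1 (-Ev x y z 0) (E0.neg_mem (Ev_mem _ _ _ _))) * mk a) : False := by
  obtain ⟨k1, hk1⟩ := entry_of_comm (h 0 1 0)
  obtain ⟨k3, hk3⟩ := entry_of_comm (h 1 0 0)
  simp only [Pi.neg_apply] at hk1 hk3
  have hk10 : k1 = 0 := by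
    by_contra hne
    have hr : ∃ i0 : N6, ∀ i : N6, (0 : ZMod 3) = k1 + -Ev 0 1 0 0 i → i = i0 := by
      revert hne
      generalize k1 = k
      revert k
      decide
    obtain ⟨i0, hi0⟩ := hr
    have hz0 : Ev 0 1 0 0 (.inr 0) = 0 := by decide
    have hz1 : Ev 0 1 0 0 (.inr 1) = 0 := by decide
    refine col_single a (i0 := i0) (j1 := .inr 0) (j2 := .inr 1) (fun i hi => hi0 i ?_) (fun i hi => hi0 i ?_)
      (by decide)
    · rw [← hz0]; exact hk1 i _ hi
    · rw [← hz1]; exact hk1 i _ hi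
  subst hk10
  obtain ⟨j, hj⟩ := exists_row a (.inl 0)
  obtain ⟨j', hj'⟩ := exists_row a (.inr 0)
  have h1 := hk1 _ _ hj
  have h3 := hk3 _ _ hj
  have h3' := hk3 _ _ hj'
  have hj1 : j = .inl 1 := by
    revert h1
    generalize j = j'
    revert j'
    decide
  subst hj1
  have hk30 : k3 = 0 := by
    revert h3
    generalize k3 = k
    revert k
    decide
  subst hk30
  revert h3'
  generalize j' = j''
  revert j''
  decide

section

variable {K : Type u} [Field K] [StarRing K] (C : Co K)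

theorem fg_io6 (x : PG K) : ∃ y : PG K, fgE (io6 C x) = io6 C y := by
  obtain ⟨y, hy, -⟩ := io6_surj C (C.re x.r) (C.im x.r) (E0.neg_mem (ex_mem C x))
  refine ⟨y, ?_⟩
  rw [hy, fgE_apply, io6_apply, fg_mk, io, cj_mo]

theorem fg_ioQ (x : PQ K) : ∃ y : PQ K, fgE (ioQ C x) = ioQ C y := by
  obtain ⟨α1, β1, α2, β2, h1⟩ := ex_of_PQ C x.2
  obtain ⟨y, hy, h2⟩ := io6_PQ C (C.re (x : PG K).r) (C.im (x : PG K).r) (-α1) (-β1) (-α2) (-β2)
  refine ⟨⟨y, hy⟩, ?_⟩
  rw [ioQ_apply, ioQ_apply, fgE_apply, io6_apply, fg_mk, h1, cj_mo, h2, mk_mo_eq]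
  refine ⟨rfl, 0, fun j => ?_⟩
  rcases j with j | j
  · show -α1 + -β1 * j = -(α1 + β1 * j) + 0
    ring
  · show -α2 + -β2 * j = -(α2 + β2 * j) + 0
    ring

theorem fg_PY {g : GG} (h : ∀ y ∈ PY K, fgE (io6 C y) = g * io6 C y * g⁻¹) : False := by
  obtain ⟨a, rfl⟩ := mk_surj g
  apply not_neg (a := a)
  intro x y z
  obtain ⟨w, hw, -, -, -, h1⟩ := exists_PY C x y z
  have h2 := h w hw
  rw [h1, fgE_apply, fg_mk, cj_mo] at h2
  rw [h2, inv_mul_cancel_right]

end

/-- **`U₆(2).2`** -/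
theorem stThreeP_u62 : StThreeP.{u} 16 768 := by
  intro K _ _ p n _ hK hq
  obtain ⟨C⟩ := exists_co hK hq
  have hfin := finite_PG hK
  have hp := p_eq hK hq
  subst hp
  obtain ⟨F1, -, -, h13, h14⟩ := exists_sys' hK (io6 C) (io6_injective C) (index_syl C hK)
  have hc1 : Nat.card (AF F1) = 1944 := by
    have h5 := card_induced mk mk_surj (io6 C) (io6_injective C) (AF F1) h14
    rw [card_cen C _ (fun _ => cenS_iff C hK), card_NS C hK] at h5
    omega
  have hc2 : Nat.card (F1.autGroup (PQ K)) = 31104 := by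
    have h5 := card_induced mk mk_surj (ioQ C) (ioQ_injective C) (F1.autGroup (PQ K)) (h13 _)
    rw [card_cen C _ (fun _ => cenQ_iff C hK), card_NQ C hK] at h5
    omega
  -- the group
  let φ : Subgroup.zpowers fgE →* MulAut GG := (Subgroup.zpowers fgE).subtype
  have hfinM : Finite (MulAut GG) := Finite.of_injective (fun e : MulAut GG => (e : GG → GG))
    (fun a b h => MulEquiv.ext (fun x => congrFun h x))
  have hfinG : Finite (GG ⋊[φ] Subgroup.zpowers fgE) := Finite.of_equiv _ SemidirectProduct.equivProd.symm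
  let j2 : PG K →* GG ⋊[φ] Subgroup.zpowers fgE := SemidirectProduct.inl.comp (io6 C)
  have hj2 : Function.Injective j2 := SemidirectProduct.inl_injective.comp (io6_injective C)
  have hidx : ¬ 3 ∣ j2.range.index := by
    have h1 : Nat.card j2.range = Nat.card (PG K) := (Nat.card_congr (MonoidHom.ofInjective hj2).toEquiv).symm
    have h2 : Nat.card (io6 C).range = Nat.card (PG K) :=
      (Nat.card_congr (MonoidHom.ofInjective (io6_injective C)).toEquiv).symm
    have h3 : Nat.card (GG ⋊[φ] Subgroup.zpowers fgE) = Nat.card GG * Nat.card (Subgroup.zpowers fgE) := by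
      rw [Nat.card_congr SemidirectProduct.equivProd, Nat.card_prod]
    have h4 := j2.range.card_mul_index
    rw [h3, ← (io6 C).range.card_mul_index, h1, h2, mul_assoc] at h4
    rw [Nat.eq_of_mul_eq_mul_left Nat.card_pos h4]
    exact Nat.prime_three.not_dvd_mul (index_syl C hK) card_zp
  obtain ⟨F, h1, h2, h3, h4⟩ := exists_sys' hK j2 hj2 hidx
  -- conjugation in the semidirect product
  have hconj : ∀ (g : GG ⋊[φ] Subgroup.zpowers fgE) (x : GG), g * SemidirectProduct.inl x * g⁻¹ =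
      SemidirectProduct.inl (g.left * (g.right : MulAut GG) x * g.left⁻¹) := by
    intro g x
    have h1 := SemidirectProduct.inl_aut (φ := φ) g.right x
    have h2 := (SemidirectProduct.inl_left_mul_inr_right g).symm
    have h3 : (g.right : MulAut GG) x = φ g.right x := rfl
    rw [map_mul, map_mul, h3, h1, map_inv]
    conv_lhs => rw [h2]
    rw [_root_.mul_inv_rev, map_inv]
    simp only [mul_assoc]
  have hmem : ∀ {P : Type u} (f f' : P → GG), (∃ g : GG ⋊[φ] Subgroup.zpowers fgE, ∀ e : P,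
      (SemidirectProduct.inl (f' e) : GG ⋊[φ] Subgroup.zpowers fgE) = g * SemidirectProduct.inl (f e) * g⁻¹) ↔
      (∃ g : GG, ∀ e, f' e = g * f e * g⁻¹) ∨ (∃ g : GG, ∀ e, f' e = g * fgE (f e) * g⁻¹) := by
    intro P f f'
    constructor
    · rintro ⟨g, hg⟩
      have h5 : ∀ e, f' e = g.left * (g.right : MulAut GG) (f e) * g.left⁻¹ := fun e =>
        SemidirectProduct.inl_injective ((hg e).trans (hconj g (f e)))
      rcases mem_zp g.right.2 with h6 | h6
      · left
        refine ⟨g.left, fun e => ?_⟩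
        rw [h5, h6, MulAut.one_apply]
      · right
        refine ⟨g.left, fun e => ?_⟩
        rw [h5, h6]
    · rintro (⟨g, hg⟩ | ⟨g, hg⟩)
      · refine ⟨SemidirectProduct.inl g, fun e => ?_⟩
        rw [hconj, hg]
        rfl
      · refine ⟨SemidirectProduct.inl g * SemidirectProduct.inr ⟨fgE, Subgroup.mem_zpowers _⟩, fun e => ?_⟩
        rw [hconj, hg, SemidirectProduct.mul_left, SemidirectProduct.mul_right]
        simp
  obtain ⟨φS, hφS⟩ := exists_autf (io6 C) (io6_injective C) fgE (fg_io6 C)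
  obtain ⟨φQ, hφQ⟩ := exists_autf (ioQ C) (ioQ_injective C) fgE (fg_ioQ C)
  have hle : ∀ (Q : Subgroup (PG K)) (γ : MulAut Q), γ ∈ F1.autGroup Q → γ ∈ F.autGroup Q := by
    intro Q γ hγ
    rw [h3]
    exact (hmem _ _).2 (Or.inl ((h13 Q γ).1 hγ))
  refine ⟨F, h1, h2, ?_, ?_, ?_, ?_⟩
  · have hfinA : Finite (MulAut (PG K)) := Finite.of_injective (fun e : MulAut (PG K) => (e : PG K → PG K))
      (fun a b h => MulEquiv.ext (fun x => congrFun h x))
    have h5 : Nat.card (AF F) = 2 * Nat.card (AF F1) := by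
      apply card_double (f := φS⁻¹)
      · intro h6
        have h7 := (AF F1).inv_mem h6
        rw [inv_inv, h14] at h7
        obtain ⟨g, hg⟩ := h7
        exact fg_PY C (fun y _ => by rw [← hφS, hg])
      · intro α
        rw [h4, h14, h14]
        refine (hmem (fun x => io6 C x) (fun x => io6 C (α x))).trans (or_congr Iff.rfl ?_)
        constructor
        · rintro ⟨g, hg⟩
          refine ⟨g, fun x => ?_⟩
          rw [MulAut.mul_apply, hg, ← hφS, MulAut.apply_inv_self]
        · rintro ⟨g, hg⟩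
          refine ⟨g, fun x => ?_⟩
          have h6 := hg (φS x)
          rw [MulAut.mul_apply, MulAut.inv_apply_self, hφS] at h6
          exact h6
    omega
  · have hfinA : Finite (MulAut (PQ K)) := Finite.of_injective (fun e : MulAut (PQ K) => (e : PQ K → PQ K))
      (fun a b h => MulEquiv.ext (fun x => congrFun h x))
    have h5 : Nat.card (F.autGroup (PQ K)) = 2 * Nat.card (F1.autGroup (PQ K)) := by
      apply card_double (f := φQ⁻¹)
      · intro h6
        have h7 := (F1.autGroup (PQ K)).inv_mem h6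
        rw [inv_inv, h13] at h7
        obtain ⟨g, hg⟩ := h7
        exact fg_PY C (fun y hy => by
          have h8 := hφQ ⟨y, PY_le_PQ hy⟩
          rw [ioQ_apply, hg] at h8
          exact h8.symm)
      · intro α
        rw [h3, h13, h13]
        refine (hmem (fun x : PQ K => io6 C x) (fun x : PQ K => io6 C (α x : PQ K))).trans (or_congr Iff.rfl ?_)
        constructor
        · rintro ⟨g, hg⟩
          refine ⟨g, fun x => ?_⟩
          have h8 := hφQ (φQ⁻¹ x)
          rw [MulAut.apply_inv_self] at h8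
          rw [MulAut.mul_apply, hg]
          rw [ioQ_apply, ioQ_apply] at h8
          rw [h8]
        · rintro ⟨g, hg⟩
          refine ⟨g, fun x => ?_⟩
          have h6 := hg (φQ x)
          have h8 := hφQ x
          rw [ioQ_apply, ioQ_apply] at h8
          rw [MulAut.mul_apply, MulAut.inv_apply_self, h8] at h6
          exact h6
    omega
  · obtain ⟨γ, hγ⟩ := exists_V C
    exact fun h => nnV C hγ (h γ (hle _ _ ((h13 _ _).2 ⟨_, hγ⟩)))
  · obtain ⟨γ, hγ⟩ := exists_Q C
    exact fun h => nnQ C hγ (h γ (hle _ _ ((h13 _ _).2 ⟨_, hγ⟩)))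

end Cfsg.Agent.H12.P4
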